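import Mathlib
import Cfsg.Prelude.Def_Sporadic_a
import Cfsg.Agent.SporadicA.SharpFour
import Cfsg.Agent.SporadicA.Steiner12
import Cfsg.Agent.SporadicA.M11Final
import Cfsg.Agent.SporadicA.M11Iso
import Cfsg.Agent.SporadicA.M11Facts2

/-!
# Every automorphism of a simple group of order 7920 is inner
-/

set_option autoImplicit false

open scoped Pointwise
open Cfsg

namespace Cfsg.Agent.SectRankFour.AutM11

open Cfsg.Agent.SporadicA.SharpFour

/-- A simple group of order 7920 acts sharply 4-transitively on 11 points. -/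
theorem exists_sharp4.{u} {G : Type u} [Group G] [Finite G] (hG : Cfsg.IsM11 G) :
    ∃ (X : Type u) (_ : Fintype X) (_ : DecidableEq X) (_ : MulAction G X),
      Fintype.card X = 11 ∧ Sharp4 G X := by
  have F : Cfsg.Agent.SporadicA.M11Final.Facts G :=
    { simple := hG.1
      card := hG.2
      two := fun x hx => Cfsg.Agent.SporadicA.M11Facts.card_centralizer_two hG hx
      three := fun x hx => Cfsg.Agent.SporadicA.M11Facts2.card_centralizer_three hG hx
      norm := fun P => Cfsg.Agent.SporadicA.M11Norm3.card_normalizer_three hG P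
      irr := fun _ hχ hχ1 _ hy => Cfsg.Agent.SporadicA.M11Facts2.irr_five hG hχ hχ1 hy }
  exact F.exists_sharp4

section

variable {G α : Type*} [Group G] [MulAction G α] [DecidableEq α]

/-- In a sharply 4-transitive action, a group element fixing four points of a set is trivial. -/
theorem eq_one_of_card (h : Sharp4 G α) (g : G) (s : Finset α) (hs : 4 ≤ s.card)
    (hg : ∀ a ∈ s, g • a = a) : g = 1 := by
  obtain ⟨t, hts, ht⟩ := Finset.exists_subset_card_eq hs
  obtain ⟨a, b, c, d, hab, hac, had, hbc, hbd, hcd, rfl⟩ := Finset.card_eq_four.1 ht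
  refine h.eq_one g a b c d (nodup4_iff.2 ⟨hab, hac, had, hbc, hbd, hcd⟩) ?_ ?_ ?_ ?_
  · exact hg a (hts (by simp))
  · exact hg b (hts (by simp))
  · exact hg c (hts (by simp))
  · exact hg d (hts (by simp))

variable [Finite G] [Fintype α]

/-- A subgroup of order 720 of a sharply 4-transitive group of degree 11 fixes a point. -/
theorem exists_fixed (h : Sharp4 G α) (h11 : Fintype.card α = 11) (H : Subgroup G)
    (hH : Nat.card H = 720) : ∃ b : α, H ≤ MulAction.stabilizer G b := by
  classical
  have p5 : Fact (Nat.Prime 5) := ⟨by norm_num⟩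
  -- an element of order 5 in `H`
  obtain ⟨x, hx⟩ : ∃ x : H, orderOf x = 5 :=
    exists_prime_orderOf_dvd_card' 5 (by rw [hH]; norm_num)
  -- its group
  let P : Subgroup H := Subgroup.zpowers x
  have hPc : Nat.card P = 5 := by rw [Nat.card_zpowers, hx]
  have hP : IsPGroup 5 P := IsPGroup.of_card (n := 1) (by rw [hPc, pow_one])
  have hfix : ∀ a : α, a ∈ MulAction.fixedPoints P α ↔ x • a = a := by
    intro a
    constructor
    · intro ha
      exact ha ⟨x, Subgroup.mem_zpowers x⟩
    · intro ha
      rintro ⟨y, hy⟩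
      obtain ⟨n, rfl⟩ := Subgroup.mem_zpowers_iff.1 hy
      change (x ^ n) • a = a
      have : x ∈ MulAction.stabilizer H a := ha
      exact (MulAction.stabilizer H a).zpow_mem this n
  have hx1 : (x : G) ≠ 1 := by
    intro h1
    have : x = 1 := Subtype.ext h1
    rw [this, orderOf_one] at hx
    norm_num at hx
  have hle3 : Nat.card (MulAction.fixedPoints P α) ≤ 3 := by
    by_contra hlt
    push Not at hlt
    apply hx1
    refine eq_one_of_card h (x : G) (MulAction.fixedPoints P α).toFinset ?_ ?_
    · rw [Set.toFinset_card, ← Nat.card_eq_fintype_card]; omega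
    · intro a ha
      rw [Set.mem_toFinset] at ha
      exact (hfix a).1 ha
  have hmod := hP.card_modEq_card_fixedPoints α
  rw [Nat.card_eq_fintype_card (α := α), h11] at hmod
  have hone : Nat.card (MulAction.fixedPoints P α) = 1 := by
    have : Nat.card (MulAction.fixedPoints P α) % 5 = 1 := by
      have := hmod.symm
      unfold Nat.ModEq at this
      omega
    omega
  obtain ⟨⟨b, hb⟩, hbu⟩ := (Nat.card_eq_one_iff_exists).1 hone
  refine ⟨b, ?_⟩
  have hbx : x • b = b := (hfix b).1 hb
  have huniq : ∀ a : α, x • a = a → a = b := by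
    intro a ha
    have := hbu ⟨a, (hfix a).2 ha⟩
    exact congrArg Subtype.val this
  -- the orbit of `b`
  have hOdvd : Nat.card (MulAction.orbit H b) ∣ 720 := by
    have : Fintype H := Fintype.ofFinite _
    have : Fintype (MulAction.stabilizer H b) := Fintype.ofFinite _
    have e := MulAction.card_orbit_mul_card_stabilizer_eq_card_group H b
    rw [← hH, Nat.card_eq_fintype_card, Nat.card_eq_fintype_card, ← e]
    exact Dvd.intro _ rfl
  have hOle : Nat.card (MulAction.orbit H b) ≤ 11 := by
    rw [← h11, ← Nat.card_eq_fintype_card]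
    exact Finite.card_subtype_le _
  have hOfix : Nat.card (MulAction.fixedPoints P (MulAction.orbit H b)) = 1 := by
    rw [Nat.card_eq_one_iff_exists]
    refine ⟨⟨⟨b, MulAction.mem_orbit_self b⟩, ?_⟩, ?_⟩
    · rintro ⟨y, hy⟩
      obtain ⟨n, rfl⟩ := Subgroup.mem_zpowers_iff.1 hy
      apply Subtype.ext
      change (x ^ n) • b = b
      have : x ∈ MulAction.stabilizer H b := hbx
      exact (MulAction.stabilizer H b).zpow_mem this n
    · rintro ⟨⟨a, ha⟩, hfa⟩
      apply Subtype.ext
      apply Subtype.ext
      apply huniq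
      exact congrArg Subtype.val (hfa ⟨x, Subgroup.mem_zpowers x⟩)
  have hOmod := hP.card_modEq_card_fixedPoints (MulAction.orbit H b)
  rw [hOfix] at hOmod
  have hcases : Nat.card (MulAction.orbit H b) = 1 ∨ Nat.card (MulAction.orbit H b) = 6 ∨
      Nat.card (MulAction.orbit H b) = 11 := by
    unfold Nat.ModEq at hOmod
    omega
  rcases hcases with h1 | h6 | h11'
  · -- fixed
    intro g hg
    rw [MulAction.mem_stabilizer_iff]
    obtain ⟨⟨c, hc⟩, hcu⟩ := Nat.card_eq_one_iff_exists.1 h1
    have e1 := hcu ⟨b, MulAction.mem_orbit_self b⟩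
    have e2 := hcu ⟨(⟨g, hg⟩ : H) • b, MulAction.mem_orbit b _⟩
    exact congrArg Subtype.val (e2.trans e1.symm)
  · -- the complement has five elements
    exfalso
    let O : Set α := MulAction.orbit H b
    have hinv : ∀ (g : H) (a : α), a ∉ O ↔ (MulAction.toPerm g : Equiv.Perm α) a ∉ O := by
      intro g a
      rw [not_iff_not]
      constructor
      · rintro ⟨k, rfl⟩
        exact ⟨g * k, mul_smul g k b⟩
      · rintro ⟨k, hk⟩
        refine ⟨g⁻¹ * k, ?_⟩
        change (g⁻¹ * k) • b = a
        change k • b = g • a at hk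
        rw [mul_smul, hk, inv_smul_smul]
    have hcard : Nat.card {a : α // a ∉ O} = 5 := by
      have h1 : Nat.card {a : α // a ∉ O} + Nat.card {a : α // a ∈ O} = 11 := by
        rw [← h11, add_comm]
        classical
        rw [Nat.card_eq_fintype_card, Nat.card_eq_fintype_card]
        exact (Fintype.card_subtype_compl (fun a => a ∈ O) ▸ by
          have := Fintype.card_subtype_le (fun a => a ∈ O)
          omega)
      have h2 : Nat.card {a : α // a ∈ O} = 6 := h6
      omega
    let f : H → Equiv.Perm {a : α // a ∉ O} := fun g =>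
      (MulAction.toPerm g : Equiv.Perm α).subtypePerm (fun a => (hinv g a).symm)
    have hf : Function.Injective f := by
      intro g g' hgg
      have : ((g'⁻¹ * g : H) : G) = 1 := by
        refine eq_one_of_card h _ (Finset.univ.filter (fun a => a ∉ O)) ?_ ?_
        · rw [← Fintype.card_subtype, ← Nat.card_eq_fintype_card]
          have := hcard
          omega
        · intro a ha
          have haO : a ∉ O := (Finset.mem_filter.1 ha).2
          have e := congrArg Subtype.val (Equiv.ext_iff.1 hgg ⟨a, haO⟩)
          change g • a = g' • a at e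
          change (g'⁻¹ * g : H) • a = a
          rw [mul_smul, e, inv_smul_smul]
      have h2 : g'⁻¹ * g = 1 := Subtype.ext this
      exact (inv_mul_eq_one.1 h2).symm
    have hle := Nat.card_le_card_of_injective f hf
    rw [hH, Nat.card_perm, hcard] at hle
    norm_num [Nat.factorial] at hle
  · rw [h11'] at hOdvd
    norm_num at hOdvd

/-- Every automorphism is induced by a permutation of the points. -/
theorem exists_perm (h : Sharp4 G α) (h11 : Fintype.card α = 11) (hG : Nat.card G = 7920)
    (φ : G ≃* G) : ∃ π : Equiv.Perm α, ∀ (g : G) (a : α), π (g • a) = φ g • π a := by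
  classical
  -- transitivity
  have htr : ∀ a b : α, ∃ g : G, g • a = b := by
    intro a b
    have hc : 3 ≤ (({a, b} : Finset α)ᶜ).card := by
      rw [Finset.card_compl, h11]
      have := Finset.card_le_two (a := a) (b := b)
      omega
    obtain ⟨t, hts, ht⟩ := Finset.exists_subset_card_eq hc
    obtain ⟨x, y, z, hxy, hxz, hyz, rfl⟩ := Finset.card_eq_three.1 ht
    have hx : x ≠ a ∧ x ≠ b := by
      have := hts (show x ∈ ({x, y, z} : Finset α) by simp)
      simpa using this
    have hy : y ≠ a ∧ y ≠ b := by
      have := hts (show y ∈ ({x, y, z} : Finset α) by simp)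
      simpa using this
    have hz : z ≠ a ∧ z ≠ b := by
      have := hts (show z ∈ ({x, y, z} : Finset α) by simp)
      simpa using this
    obtain ⟨g, hg, -⟩ := h.exists_map a x y z b x y z
      (nodup4_iff.2 ⟨hx.1.symm, hy.1.symm, hz.1.symm, hxy, hxz, hyz⟩)
      (nodup4_iff.2 ⟨hx.2.symm, hy.2.symm, hz.2.symm, hxy, hxz, hyz⟩)
    exact ⟨g, hg⟩
  have : Nonempty α := by
    rw [← Fintype.card_pos_iff, h11]; norm_num
  obtain ⟨a0⟩ := this
  have hst : ∀ a : α, Nat.card (MulAction.stabilizer G a) = 720 := by
    intro a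
    have : Fintype G := Fintype.ofFinite _
    have : Fintype (MulAction.stabilizer G a) := Fintype.ofFinite _
    have e := MulAction.card_orbit_mul_card_stabilizer_eq_card_group G a
    have ho : Fintype.card (MulAction.orbit G a) = 11 := by
      rw [← h11]
      apply Fintype.card_congr
      refine Equiv.subtypeUnivEquiv ?_
      intro b
      obtain ⟨g, hg⟩ := htr a b
      exact ⟨g, hg⟩
    rw [ho, ← Nat.card_eq_fintype_card (α := G), hG] at e
    rw [Nat.card_eq_fintype_card]
    omega
  -- the image of the stabilizer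
  have hcard : Nat.card ((MulAction.stabilizer G a0).map φ.toMonoidHom : Subgroup G) = 720 := by
    rw [← hst a0]
    exact (Nat.card_congr ((MulAction.stabilizer G a0).equivMapOfInjective φ.toMonoidHom
      φ.injective).toEquiv).symm
  obtain ⟨b0, hb0⟩ := exists_fixed h h11 _ hcard
  have hb : (MulAction.stabilizer G a0).map φ.toMonoidHom = MulAction.stabilizer G b0 := by
    apply Subgroup.eq_of_le_of_card_ge hb0
    rw [hst b0, hcard]
  have hmem : ∀ g : G, g • a0 = a0 ↔ φ g • b0 = b0 := by
    intro g
    rw [← MulAction.mem_stabilizer_iff, ← MulAction.mem_stabilizer_iff, ← hb]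
    constructor
    · intro hg
      exact ⟨g, hg, rfl⟩
    · rintro ⟨k, hk, hkg⟩
      rwa [← φ.injective hkg]
  choose k hk using htr a0
  -- the map
  have hkey : ∀ g g' : G, g • a0 = g' • a0 ↔ φ g • b0 = φ g' • b0 := by
    intro g g'
    rw [← inv_smul_eq_iff (g := g'), ← inv_smul_eq_iff (g := φ g'), ← mul_smul, ← mul_smul,
      hmem, map_mul, map_inv]
  let π : α → α := fun a => φ (k a) • b0
  have hinj : Function.Injective π := by
    intro a a' haa
    have := (hkey (k a) (k a')).2 haa
    rw [hk, hk] at this
    exact this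
  have hbij : Function.Bijective π := Finite.injective_iff_bijective.1 hinj
  refine ⟨Equiv.ofBijective π hbij, fun g a => ?_⟩
  change φ (k (g • a)) • b0 = φ g • φ (k a) • b0
  rw [← mul_smul, ← map_mul]
  apply (hkey _ _).1
  rw [hk, mul_smul, hk]

end

/-- Every automorphism of a simple group of order 7920 is inner. -/
theorem exists_conj {G : Type*} [Group G] [Finite G] (hG : Cfsg.IsM11 G) (φ : G ≃* G) :
    ∃ g : G, φ = MulAut.conj g := by
  classical
  obtain ⟨α, i1, i2, i3, h11, h⟩ := exists_sharp4 hG
  obtain ⟨π, hπ⟩ := exists_perm h h11 hG.2 φ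
  have hB := blocks_steiner h h11
  obtain ⟨y⟩ : Nonempty (Fin 4 ↪ α) := by
    apply Function.Embedding.nonempty_of_card_le
    rw [Fintype.card_fin, h11]; norm_num
  -- `π` preserves the blocks
  have hfif : ∀ a b c d e : α, Fifth G a b c d e → Fifth G (π a) (π b) (π c) (π d) (π e) := by
    rintro a b c d e ⟨g, ha, hb, hc, hd, he, hne⟩
    exact ⟨φ g, by rw [← hπ, ha], by rw [← hπ, hb], by rw [← hπ, hc], by rw [← hπ, hd],
      by rw [← hπ, he], fun h => hne (π.injective h)⟩
  have hsub : ∀ b ∈ blocks G α, b.image π ∈ blocks G α := by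
    rintro _ ⟨x, hx, hf, rfl⟩
    refine ⟨fun i => π (x i), π.injective.comp hx, hfif _ _ _ _ _ hf, ?_⟩
    rw [Finset.image_image]
    rfl
  have himg : (fun b : Finset α => b.image π) '' blocks G α = blocks G α := by
    have hfin : (blocks G α).Finite := Set.toFinite _
    apply Set.eq_of_subset_of_ncard_le
    · rintro _ ⟨b, hb, rfl⟩
      exact hsub b hb
    · rw [Set.ncard_image_of_injective _ (Finset.image_injective π.injective)]
    · exact hfin
  obtain ⟨g, hg⟩ := Cfsg.Agent.SporadicA.M11Iso.exists_smul_embedding h y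
    (y.trans π.toEmbedding)
  have heq : π = (MulAction.toPerm g : Equiv.Perm α) := by
    obtain ⟨k, -, hk⟩ := SporadicA.Steiner12.exists_unique_iso11 h11 h11 hB hB y
      (y.trans π.toEmbedding)
    rw [hk π ⟨himg, fun i => rfl⟩,
      hk (MulAction.toPerm g) ⟨SporadicA.M11Iso.image_blocks g, fun i => hg i⟩]
  refine ⟨g, ?_⟩
  apply MulEquiv.ext
  intro x
  apply SporadicA.M11Iso.toPermHom_injective h y
  apply Equiv.ext
  intro a
  obtain ⟨b, rfl⟩ := π.surjective a
  change φ x • π b = (g * x * g⁻¹) • π b
  rw [← hπ, heq]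
  change g • x • b = (g * x * g⁻¹) • g • b
  rw [mul_smul, mul_smul, inv_smul_smul]

/-- The outer automorphism group of a simple group of order 7920 is trivial, in particular
abelian. -/
theorem commutator_mulAut_le {G : Type*} [Group G] [Finite G] (hG : Cfsg.IsM11 G) :
    commutator (MulAut G) ≤ (MulAut.conj : G →* MulAut G).range := by
  intro φ _
  obtain ⟨g, hg⟩ := exists_conj hG φ
  exact ⟨g, hg.symm⟩

end Cfsg.Agent.SectRankFour.AutM11
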