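import Mathlib
import Cfsg.Prelude.Def_CaseTheorems
import Cfsg.Prelude.Def_Involutions
import Cfsg.Agent.Lib.Cores
import Cfsg.Agent.TwoFusion.SectionalRank

/-!
# Groups all of whose 2-local subgroups are solvable: reduction to a simple normal subgroup

`G` a finite nonsolvable group with solvable 2-local subgroups and solvable core `O(G)`: then `G/O(G)` has a
normal simple subgroup `K` with trivial centraliser; when every commutator of automorphisms of `K` is inner,
`G'/O(G') ≃* K`.
-/

set_option autoImplicit false

namespace Cfsg.Agent.SectRankFour.Socle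

open Cfsg
open scoped Pointwise commutatorElement

/-- All 2-local subgroups are solvable. -/
def LocSolv (G : Type*) [Group G] : Prop := ∀ N : Subgroup G, IsTwoLocal N → Group.IsSolvable N

theorem LocSolv.normalizer {G : Type*} [Group G] (h : LocSolv G) {T : Subgroup G} (hT : IsPGroup 2 T)
    (hT1 : T ≠ ⊥) : Group.IsSolvable (Subgroup.normalizer (T : Set G)) :=
  h _ ⟨T, hT, hT1, rfl⟩

theorem isSolvable_of_le {G : Type*} [Group G] {H K : Subgroup G} (h : H ≤ K)
    (hK : Group.IsSolvable K) : Group.IsSolvable H :=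
  Group.isSolvable_of_isSolvable_injective (f := Subgroup.inclusion h) (Subgroup.inclusion_injective h)

/-- The centralizer of an involution is solvable. -/
theorem LocSolv.centralizer {G : Type*} [Group G] (hN : LocSolv G) {t : G} (ht : orderOf t = 2) :
    Group.IsSolvable (Subgroup.centralizer ({t} : Set G)) := by
  have h2 : IsPGroup 2 (Subgroup.zpowers t) := by
    apply IsPGroup.of_card (n := 1)
    rw [Nat.card_zpowers, ht, pow_one]
  have h1 : Subgroup.zpowers t ≠ ⊥ := by
    intro h
    rw [Subgroup.zpowers_eq_bot] at h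
    rw [h, orderOf_one] at ht
    exact absurd ht (by norm_num)
  refine isSolvable_of_le ?_ (hN.normalizer h2 h1)
  rw [← Subgroup.centralizer_closure, ← Subgroup.zpowers_eq_closure]
  exact Subgroup.centralizer_le_normalizer _

theorem LocSolv.of_injective {G H : Type*} [Group G] [Group H] (hG : LocSolv G) (f : H →* G)
    (hf : Function.Injective f) : LocSolv H := by
  rintro N ⟨T, hT, hT1, rfl⟩
  have h2 : IsPGroup 2 (T.map f) := hT.map f
  have h3 : T.map f ≠ ⊥ := by
    rwa [Ne, Subgroup.map_eq_bot_iff_of_injective _ hf]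
  have hs := hG.normalizer h2 h3
  have hmem : ∀ x : Subgroup.normalizer (T : Set H), f (x : H) ∈ Subgroup.normalizer ((T.map f : Subgroup G) : Set G) := by
    intro x
    exact Subgroup.le_normalizer_map f ⟨x, x.2, rfl⟩
  let g : Subgroup.normalizer (T : Set H) →* Subgroup.normalizer ((T.map f : Subgroup G) : Set G) :=
    (f.comp (Subgroup.subtype _)).codRestrict _ hmem
  refine Group.isSolvable_of_isSolvable_injective (f := g) ?_
  intro x y hxy
  have := congrArg Subtype.val hxy
  exact Subtype.ext (hf this)

theorem LocSolv.subgroup {G : Type*} [Group G] (hG : LocSolv G) (H : Subgroup G) : LocSolv H :=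
  hG.of_injective H.subtype H.subtype_injective

theorem LocSolv.equiv {G H : Type*} [Group G] [Group H] (hG : LocSolv G) (e : G ≃* H) : LocSolv H :=
  hG.of_injective e.symm.toMonoidHom e.symm.injective

/-- Frattini: normalizers of 2-subgroups modulo a normal subgroup of odd order are images of normalizers of
2-subgroups. -/
theorem LocSolv.quotient {G : Type*} [Group G] [Finite G] (hG : LocSolv G) (N : Subgroup G) [N.Normal]
    (hN : Odd (Nat.card N)) : LocSolv (G ⧸ N) := by
  rintro M ⟨T, hT, hT1, rfl⟩
  set π := QuotientGroup.mk' N with hπ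
  have hsurj : Function.Surjective π := QuotientGroup.mk'_surjective N
  set L := T.comap π with hL
  have hmapL : L.map π = T := Subgroup.map_comap_eq_self_of_surjective hsurj T
  obtain ⟨P⟩ : Nonempty (Sylow 2 L) := inferInstance
  set Q : Subgroup G := (P : Subgroup L).map L.subtype with hQ
  have hQ2 : IsPGroup 2 Q := P.isPGroup'.map _
  have hQL : Q ≤ L := Subgroup.map_subtype_le _
  -- `Q` maps onto `T`
  have hNL : N ≤ L := by
    intro x hx
    have : π x = 1 := (QuotientGroup.eq_one_iff x).2 hx
    change π x ∈ T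
    rw [this]
    exact T.one_mem
  have hcardL : Nat.card L = Nat.card N * Nat.card T := by
    have h1 := Subgroup.card_eq_card_quotient_mul_card_subgroup (N.subgroupOf L)
    have h2 : Nat.card (N.subgroupOf L) = Nat.card N :=
      Nat.card_congr (Subgroup.subgroupOfEquivOfLe hNL).toEquiv
    have h3 : Nat.card (L ⧸ N.subgroupOf L) = Nat.card T := by
      have hk : (π.comp L.subtype).ker = N.subgroupOf L := by
        ext x
        change (QuotientGroup.mk' N) (x : G) = 1 ↔ _
        rw [QuotientGroup.mk'_apply, QuotientGroup.eq_one_iff]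
        rfl
      have e := QuotientGroup.quotientKerEquivRange (π.comp L.subtype)
      have hr : (π.comp L.subtype).range = T := by
        rw [MonoidHom.range_comp, Subgroup.range_subtype, hmapL]
      have := Nat.card_congr e.toEquiv
      rw [hr] at this
      rw [← this]
      exact Nat.card_congr (QuotientGroup.quotientMulEquivOfEq hk).symm.toEquiv
    rw [h1, h2, h3, mul_comm]
  have hQT : Q.map π = T := by
    -- orders: `Q ∩ N = 1`, `|Q| = |T|`
    have hle : Q.map π ≤ T := by
      rw [← hmapL]
      exact Subgroup.map_mono hQL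
    obtain ⟨a, ha⟩ := IsPGroup.iff_card.1 hT
    have hcQ : Nat.card Q = 2 ^ (Nat.card L).factorization 2 := by
      rw [hQ, Subgroup.card_map_of_injective L.subtype_injective]
      exact P.card_eq_multiplicity
    have hfac : (Nat.card L).factorization 2 = a := by
      rw [hcardL, ha, Nat.factorization_mul (Nat.card_pos.ne') (by positivity)]
      rw [Finsupp.add_apply, Nat.Prime.factorization_pow Nat.prime_two, Finsupp.single_eq_same]
      have : (Nat.card N).factorization 2 = 0 := by
        apply Nat.factorization_eq_zero_of_not_dvd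
        rw [← even_iff_two_dvd, Nat.not_even_iff_odd]
        exact hN
      rw [this, zero_add]
    have hinj : Function.Injective (π.comp Q.subtype) := by
      rw [injective_iff_map_eq_one]
      intro x hx
      have hxN : (x : G) ∈ N := (QuotientGroup.eq_one_iff (x : G)).1 hx
      have h1 : orderOf (x : G) ∣ Nat.card N := by
        have := orderOf_dvd_natCard (⟨x, hxN⟩ : N)
        rwa [Subgroup.orderOf_mk] at this
      have h2 : ∃ k, orderOf (x : G) = 2 ^ k := by
        obtain ⟨k, hk⟩ := (IsPGroup.iff_orderOf.1 hQ2) x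
        exact ⟨k, by rw [Subgroup.orderOf_coe, hk]⟩
      obtain ⟨k, hk⟩ := h2
      rw [hk] at h1
      rcases Nat.eq_zero_or_pos k with rfl | hk0
      · rw [pow_zero, orderOf_eq_one_iff] at hk
        exact Subtype.ext hk
      · exfalso
        have h3 : 2 ∣ Nat.card N := (dvd_pow_self 2 hk0.ne').trans h1
        rw [← even_iff_two_dvd] at h3
        exact (Nat.not_even_iff_odd.2 hN) h3
    apply Subgroup.eq_of_le_of_card_ge hle
    have : Nat.card (Q.map π) = Nat.card Q := by
      have h1 : Q.map π = (π.comp Q.subtype).range := by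
        rw [MonoidHom.range_comp, Subgroup.range_subtype]
      rw [h1]
      exact Nat.card_congr (MonoidHom.ofInjective hinj).symm.toEquiv
    rw [this, hcQ, hfac, ha]
  have hQ1 : Q ≠ ⊥ := by
    rintro h
    apply hT1
    rw [← hQT, h, Subgroup.map_bot]
  have hsolv := hG.normalizer hQ2 hQ1
  -- Frattini
  have hle : Subgroup.normalizer (T : Set (G ⧸ N)) ≤
      (Subgroup.normalizer (Q : Set G)).map π := by
    intro y hy
    obtain ⟨x, rfl⟩ := hsurj y
    have hx : x ∈ Subgroup.normalizer (L : Set G) := by
      rw [Subgroup.mem_normalizer_iff] at hy ⊢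
      intro h
      have := hy (π h)
      change π h ∈ T ↔ π (x * h * x⁻¹) ∈ T
      rw [map_mul, map_mul, map_inv]
      exact this
    -- conjugate Sylow subgroups of `L`
    have hxQ : (MulAut.conj x • Q : Subgroup G) ≤ L := by
      rintro _ ⟨q, hq, rfl⟩
      exact (Subgroup.mem_normalizer_iff.1 hx q).1 (hQL hq)
    have hcard : Nat.card (MulAut.conj x • Q : Subgroup G) = Nat.card Q :=
      Nat.card_congr (Subgroup.equivSMul (MulAut.conj x) Q).symm.toEquiv
    have hp2 : IsPGroup 2 ((MulAut.conj x • Q : Subgroup G).subgroupOf L) := by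
      have h1 : IsPGroup 2 (MulAut.conj x • Q : Subgroup G) := hQ2.map _
      exact h1.comap_of_injective L.subtype L.subtype_injective
    obtain ⟨P', hP'⟩ := hp2.exists_le_sylow
    have hPP : Nat.card ((MulAut.conj x • Q : Subgroup G).subgroupOf L) = Nat.card P' := by
      have h1 : Nat.card ((MulAut.conj x • Q : Subgroup G).subgroupOf L) = Nat.card Q := by
        rw [← hcard]
        exact Nat.card_congr (Subgroup.subgroupOfEquivOfLe hxQ).toEquiv
      rw [h1, hQ, Subgroup.card_map_of_injective L.subtype_injective, P.card_eq_multiplicity,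
        P'.card_eq_multiplicity]
    have hPe : (MulAut.conj x • Q : Subgroup G).subgroupOf L = (P' : Subgroup L) :=
      Subgroup.eq_of_le_of_card_ge hP' hPP.ge
    obtain ⟨l, hl⟩ := MulAction.exists_smul_eq L P' P
    have hl' : (MulAut.conj (l : G) • (MulAut.conj x • Q : Subgroup G) : Subgroup G) = Q := by
      have h1 : ((MulAut.conj l • (P' : Subgroup L) : Subgroup L)) = (P : Subgroup L) := by
        rw [← hl]; rfl
      have h2 : ((MulAut.conj l • (P' : Subgroup L) : Subgroup L)).map L.subtype = Q := by
        rw [h1]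
      rw [← hPe] at h2
      refine Eq.trans ?_ h2
      ext g
      constructor
      · rintro ⟨_, ⟨q, hq, rfl⟩, rfl⟩
        refine ⟨l * ⟨MulAut.conj x q, hxQ ⟨q, hq, rfl⟩⟩ * l⁻¹, ⟨⟨MulAut.conj x q, hxQ ⟨q, hq, rfl⟩⟩, ?_, rfl⟩, rfl⟩
        exact ⟨q, hq, rfl⟩
      · rintro ⟨_, ⟨z, hz, rfl⟩, rfl⟩
        exact ⟨z, hz, rfl⟩
    have hn : (l : G) * x ∈ Subgroup.normalizer (Q : Set G) := by
      have h3 : (MulAut.conj ((l : G) * x) • Q : Subgroup G) = Q := by
        rw [map_mul, mul_smul]
        exact hl'
      rw [Subgroup.mem_normalizer_iff]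
      intro h
      constructor
      · intro hh
        have : MulAut.conj ((l : G) * x) h ∈ (MulAut.conj ((l : G) * x) • Q : Subgroup G) := ⟨h, hh, rfl⟩
        rw [h3] at this
        exact this
      · intro hh
        rw [← h3] at hh
        obtain ⟨z, hz, hzz⟩ := hh
        have : z = h := (MulAut.conj ((l : G) * x)).injective hzz
        exact this ▸ hz
    -- `π l ∈ T = π Q`
    have hl2 : π (l : G) ∈ T := l.2
    rw [← hQT] at hl2
    obtain ⟨q, hq, hql⟩ := hl2
    refine ⟨q⁻¹ * ((l : G) * x), ?_, ?_⟩
    · exact Subgroup.mul_mem _ (Subgroup.inv_mem _ (Subgroup.le_normalizer hq)) hn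
    · rw [map_mul, map_mul, map_inv, hql, inv_mul_cancel_left]
  have hs2 : Group.IsSolvable ((Subgroup.normalizer (Q : Set G)).map π) :=
    Group.isSolvable_of_surjective (f := π.subgroupMap (Subgroup.normalizer (Q : Set G)))
      (π.subgroupMap_surjective _)
  exact isSolvable_of_le hle hs2

theorem sectional_of_injective {G H : Type*} [Group G] [Finite G] [Group H] [Finite H] {p k : ℕ}
    (h : SectionalPRankLE p k G) (f : H →* G) (hf : Function.Injective f) :
    SectionalPRankLE p k H := by
  rw [TwoFusion.SectionalRank.sectionalPRankLE_iff] at h ⊢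
  intro X Y hXY
  have := h _ _ (hXY.map f)
  rwa [Subgroup.card_map_of_injective hf, Subgroup.card_map_of_injective hf] at this

theorem sectional_quotient {G : Type*} [Group G] [Finite G] {p k : ℕ}
    (h : SectionalPRankLE p k G) (N : Subgroup G) [N.Normal] : SectionalPRankLE p k (G ⧸ N) := by
  rw [TwoFusion.SectionalRank.sectionalPRankLE_iff] at h ⊢
  intro X Y hXY
  have h1 := h _ _ (hXY.comap (QuotientGroup.mk' N))
  have key : ∀ Z : Subgroup (G ⧸ N), Nat.card (Z.comap (QuotientGroup.mk' N)) = Nat.card N * Nat.card Z := by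
    intro Z
    have h2 := Subgroup.index_comap_of_surjective Z (QuotientGroup.mk'_surjective N)
    have h3 := (Z.comap (QuotientGroup.mk' N)).card_mul_index
    have h4 := Subgroup.card_eq_card_quotient_mul_card_subgroup N
    have h5 := Z.card_mul_index
    have hpos : 0 < Z.index := Nat.pos_of_ne_zero Subgroup.index_ne_zero_of_finite
    apply Nat.eq_of_mul_eq_mul_right hpos
    rw [h2] at h3
    rw [h3, h4, ← h5]
    ring
  rw [key, key] at h1
  have hpos : 0 < Nat.card N := Nat.card_pos
  have h3 : Nat.card N * Nat.card X ≤ Nat.card N * (p ^ k * Nat.card Y) := by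
    calc Nat.card N * Nat.card X ≤ p ^ k * (Nat.card N * Nat.card Y) := h1
      _ = Nat.card N * (p ^ k * Nat.card Y) := by ring
  exact Nat.le_of_mul_le_mul_left h3 hpos

/-- a nontrivial normal subgroup of odd order exists or the group has trivial core -/
theorem even_card_of_normal {G : Type*} [Group G] [Finite G] (hcore : oddCore G = ⊥) {N : Subgroup G}
    (hN : N.Normal) (hN1 : N ≠ ⊥) : Even (Nat.card N) := by
  by_contra hodd
  rw [Nat.not_even_iff_odd] at hodd
  apply hN1
  rw [eq_bot_iff, ← hcore]
  exact Lib.Cores.le_pPrimeCore hN (Nat.coprime_two_right.2 hodd)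

theorem exists_orderOf_two {G : Type*} [Group G] [Finite G] (h : Even (Nat.card G)) :
    ∃ t : G, orderOf t = 2 :=
  exists_prime_orderOf_dvd_card' 2 (even_iff_two_dvd.1 h)

/-- `G` with trivial core and solvable 2-local subgroups, nonsolvable: there is a normal simple subgroup with
trivial centralizer. -/
theorem exists_simple_normal {G : Type*} [Group G] [Finite G] (hG : ¬ Group.IsSolvable G)
    (hcore : oddCore G = ⊥) (hL : LocSolv G) :
    ∃ K : Subgroup G, K.Normal ∧ IsSimpleGroup K ∧ ¬ Group.IsSolvable K ∧
      Subgroup.centralizer (K : Set G) = ⊥ := by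
  have hnt : Nontrivial G := by
    by_contra h
    rw [not_nontrivial_iff_subsingleton] at h
    exact hG inferInstance
  -- `O_2(G) = 1`
  have hO2 : pCore 2 G = ⊥ := by
    by_contra h
    have hs := hL.normalizer (Lib.Cores.pCore_isPGroup (G := G) 2) h
    have hn : (pCore 2 G).Normal := Lib.Cores.pCore_normal 2
    rw [Subgroup.normalizer_eq_top] at hs
    exact hG (Group.isSolvable_of_surjective (f := (Subgroup.topEquiv (G := G)).toMonoidHom)
      (Subgroup.topEquiv (G := G)).surjective)
  obtain ⟨N, hN⟩ := (Set.toFinite {N : Subgroup G | N.Normal ∧ N ≠ ⊥}).exists_minimal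
    ⟨⊤, inferInstance, top_ne_bot⟩
  obtain ⟨⟨hNn, hN1⟩, hNmin⟩ := hN
  have hNmin' : ∀ M : Subgroup G, M.Normal → M ≠ ⊥ → M ≤ N → M = N := fun M hM hM1 hMN =>
    le_antisymm hMN (hNmin ⟨hM, hM1⟩ hMN)
  have hNcore : oddCore N = ⊥ := by
    have h1 := Lib.Cores.map_subtype_pPrimeCore (G := G) 2 hNn
    have h2 : pPrimeCore 2 G = ⊥ := hcore
    rw [h2, inf_bot_eq] at h1
    exact (Subgroup.map_eq_bot_iff_of_injective _ N.subtype_injective).1 h1
  have hN2 : pCore 2 N = ⊥ := by
    have h1 := Lib.Cores.map_subtype_pCore (G := G) 2 hNn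
    rw [hO2, inf_bot_eq] at h1
    exact (Subgroup.map_eq_bot_iff_of_injective _ N.subtype_injective).1 h1
  have hNnt : Nontrivial N := (Subgroup.nontrivial_iff_ne_bot N).2 hN1
  obtain ⟨L, hLm⟩ := (Set.toFinite {L : Subgroup N | L.Normal ∧ L ≠ ⊥}).exists_minimal
    ⟨⊤, inferInstance, top_ne_bot⟩
  obtain ⟨⟨hLn, hL1⟩, hLmin⟩ := hLm
  have hLmin' : ∀ M : Subgroup N, M.Normal → M ≠ ⊥ → M ≤ L → M = L := fun M hM hM1 hMN =>
    le_antisymm hMN (hLmin ⟨hM, hM1⟩ hMN)
  have hLeven : Even (Nat.card L) := even_card_of_normal hNcore hLn hL1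
  -- `L` is not solvable
  have hLns : ¬ Group.IsSolvable L := by
    intro hs
    -- `L` is abelian
    have hLnt : Nontrivial L := (Subgroup.nontrivial_iff_ne_bot L).2 hL1
    have hlt : commutator L ≠ ⊤ := by
      intro h
      have := Group.IsSolvable.commutator_lt_top_of_nontrivial L
      exact this.ne h
    have hcomm : (commutator L).map L.subtype = ⊥ := by
      by_contra h
      have hch : ((commutator L).map L.subtype).Normal := inferInstance
      have h1 := hLmin' _ hch h (Subgroup.map_subtype_le _)
      apply hlt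
      rw [eq_top_iff]
      intro x _
      have : (x : N) ∈ (commutator L).map L.subtype := by rw [h1]; exact x.2
      obtain ⟨y, hy, hyx⟩ := this
      have : y = x := Subtype.ext hyx
      exact this ▸ hy
    have hab : ∀ a ∈ L, ∀ b ∈ L, a * b = b * a := by
      intro a ha b hb
      have h1 : (commutator L) = ⊥ :=
        (Subgroup.map_eq_bot_iff_of_injective _ L.subtype_injective).1 hcomm
      have h2 : (⟨a, ha⟩ * ⟨b, hb⟩ : L) = ⟨b, hb⟩ * ⟨a, ha⟩ := by
        have h3 : ⁅(⟨a, ha⟩ : L), (⟨b, hb⟩ : L)⁆ ∈ commutator L :=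
          Subgroup.commutator_mem_commutator (Subgroup.mem_top _) (Subgroup.mem_top _)
        rw [h1, Subgroup.mem_bot, commutatorElement_eq_one_iff_mul_comm] at h3
        exact h3
      exact congrArg Subtype.val h2
    -- the elements of order dividing two
    let E : Subgroup N :=
      { carrier := {x | x ∈ L ∧ x * x = 1}
        one_mem' := ⟨L.one_mem, one_mul 1⟩
        mul_mem' := by
          rintro a b ⟨ha, ha2⟩ ⟨hb, hb2⟩
          refine ⟨L.mul_mem ha hb, ?_⟩
          calc a * b * (a * b) = a * (b * a) * b := by group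
            _ = a * (a * b) * b := by rw [hab b hb a ha]
            _ = (a * a) * (b * b) := by group
            _ = 1 := by rw [ha2, hb2, one_mul]
        inv_mem' := by
          rintro a ⟨ha, ha2⟩
          refine ⟨L.inv_mem ha, ?_⟩
          rw [← mul_inv_rev, ha2, inv_one] }
    have hEn : E.Normal := by
      constructor
      rintro a ⟨ha, ha2⟩ g
      refine ⟨hLn.conj_mem a ha g, ?_⟩
      calc g * a * g⁻¹ * (g * a * g⁻¹) = g * (a * a) * g⁻¹ := by group
        _ = 1 := by rw [ha2, mul_one, mul_inv_cancel]
    have hE2 : IsPGroup 2 E := by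
      rintro ⟨a, ha, ha2⟩
      refine ⟨1, Subtype.ext ?_⟩
      rw [pow_one]
      change a ^ 2 = 1
      rw [pow_two, ha2]
    have hEle : E ≤ pCore 2 N := Lib.Cores.le_pCore hEn hE2
    rw [hN2, le_bot_iff] at hEle
    obtain ⟨t, ht⟩ := exists_orderOf_two hLeven
    have htE : (t : N) ∈ E := by
      refine ⟨t.2, ?_⟩
      have : t * t = 1 := by rw [← pow_two, ← ht, pow_orderOf_eq_one]
      exact congrArg Subtype.val this
    rw [hEle, Subgroup.mem_bot] at htE
    have : t = 1 := Subtype.ext htE
    rw [this, orderOf_one] at ht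
    exact absurd ht (by norm_num)
  -- conjugates of `L` under `G` equal `L`
  have hconj : ∀ g : G, L.map (MulAut.conjNormal g : MulAut N).toMonoidHom = L := by
    intro g
    by_contra hne
    set L' := L.map (MulAut.conjNormal g : MulAut N).toMonoidHom with hL'
    have hL'n : L'.Normal := hLn.map _ (MulAut.conjNormal g : MulAut N).surjective
    have hcard : Nat.card L' = Nat.card L :=
      Subgroup.card_map_of_injective (MulAut.conjNormal g : MulAut N).injective
    have hinf : L ⊓ L' = ⊥ := by
      by_contra h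
      have h1 := hLmin' (L ⊓ L') inferInstance h inf_le_left
      have h2 : L ≤ L' := by rw [← h1]; exact inf_le_right
      exact hne (Subgroup.eq_of_le_of_card_ge h2 hcard.le).symm
    obtain ⟨t, ht⟩ := exists_orderOf_two hLeven
    have hLt : orderOf (t : N) = 2 := by rw [Subgroup.orderOf_coe, ht]
    have hle : L' ≤ Subgroup.centralizer ({(t : N)} : Set N) := by
      intro x hx
      rw [Subgroup.mem_centralizer_singleton_iff]
      have h1 : (t : N) * x * (t : N)⁻¹ * x⁻¹ ∈ L ⊓ L' := by
        constructor
        · have : (t : N) * (x * (t : N)⁻¹ * x⁻¹) ∈ L :=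
            L.mul_mem t.2 (hLn.conj_mem _ (L.inv_mem t.2) x)
          simpa [mul_assoc] using this
        · exact L'.mul_mem (hL'n.conj_mem x hx t) (L'.inv_mem hx)
      rw [hinf, Subgroup.mem_bot] at h1
      have h2 : (t : N) * x = x * t := by
        calc (t : N) * x = ((t : N) * x * (t : N)⁻¹ * x⁻¹) * (x * t) := by group
          _ = x * t := by rw [h1, one_mul]
      exact h2.symm
    have hs := isSolvable_of_le hle ((hL.subgroup N).centralizer hLt)
    apply hLns
    exact Group.isSolvable_of_isSolvable_injective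
      (f := (MulAut.conjNormal g : MulAut N).toMonoidHom.subgroupMap L)
      (by
        intro x y hxy
        exact Subtype.ext ((MulAut.conjNormal g : MulAut N).injective (congrArg Subtype.val hxy)))
  have hLtop : L = ⊤ := by
    have hn : (L.map N.subtype).Normal := by
      constructor
      rintro _ ⟨x, hx, rfl⟩ g
      refine ⟨MulAut.conjNormal g x, ?_, ?_⟩
      · rw [← hconj g]
        exact ⟨x, hx, rfl⟩
      · exact MulAut.conjNormal_apply g x
    have h1 : L.map N.subtype ≠ ⊥ := by
      rwa [Ne, Subgroup.map_eq_bot_iff_of_injective _ N.subtype_injective]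
    have h2 := hNmin' _ hn h1 (Subgroup.map_subtype_le _)
    rw [eq_top_iff]
    intro x _
    have : (x : G) ∈ L.map N.subtype := by rw [h2]; exact x.2
    obtain ⟨y, hy, hyx⟩ := this
    have : y = x := Subtype.ext hyx
    exact this ▸ hy
  have hsimple : IsSimpleGroup N := by
    refine ⟨fun M hM => ?_⟩
    by_cases hM1 : M = ⊥
    · exact Or.inl hM1
    · right
      have := hLmin' M hM hM1 (by rw [hLtop]; exact le_top)
      rw [this, hLtop]
  have hNns : ¬ Group.IsSolvable N := by
    intro hs
    exact hLns inferInstance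
  refine ⟨N, hNn, hsimple, hNns, ?_⟩
  by_contra hC
  have hCn : (Subgroup.centralizer (N : Set G)).Normal := inferInstance
  obtain ⟨t, ht⟩ := exists_orderOf_two (even_card_of_normal hcore hCn hC)
  have hle : N ≤ Subgroup.centralizer ({(t : G)} : Set G) := by
    intro x hx
    rw [Subgroup.mem_centralizer_singleton_iff]
    exact (Subgroup.mem_centralizer_iff.1 t.2 x hx)
  exact hNns (isSolvable_of_le hle (hL.centralizer (by rw [Subgroup.orderOf_coe, ht])))

/-- If every commutator of automorphisms of the normal simple subgroup `K` is inner then `G' = K`. -/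
theorem commutator_eq {G : Type*} [Group G] {K : Subgroup G} (hKn : K.Normal) (hK : IsSimpleGroup K)
    (hKs : ¬ Group.IsSolvable K) (hC : Subgroup.centralizer (K : Set G) = ⊥)
    (hout : commutator (MulAut K) ≤ (MulAut.conj : K →* MulAut K).range) :
    commutator G = K := by
  apply le_antisymm
  · rw [commutator_def, Subgroup.commutator_le]
    intro g _ h _
    have h1 : (MulAut.conjNormal ⁅g, h⁆ : MulAut K) ∈ commutator (MulAut K) := by
      rw [map_commutatorElement]
      exact Subgroup.commutator_mem_commutator (Subgroup.mem_top _) (Subgroup.mem_top _)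
    obtain ⟨k, hk⟩ := hout h1
    have h2 : ⁅g, h⁆ * (k : G)⁻¹ ∈ Subgroup.centralizer (K : Set G) := by
      rw [Subgroup.mem_centralizer_iff]
      intro x hx
      have h3 := congrArg (fun f : MulAut K => ((f ((MulAut.conj k)⁻¹ ⟨x, hx⟩) : K) : G)) hk
      simp only [MulAut.conjNormal_apply, MulAut.apply_inv_self] at h3
      have h4 : (((MulAut.conj k)⁻¹ ⟨x, hx⟩ : K) : G) = (k : G)⁻¹ * x * k := by
        rw [← map_inv]
        simp
      rw [h4] at h3
      have h5 : x = ⁅g, h⁆ * ((k : G)⁻¹ * x * k) * ⁅g, h⁆⁻¹ := h3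
      calc x * (⁅g, h⁆ * (k : G)⁻¹) = ⁅g, h⁆ * ((k : G)⁻¹ * x * k) * ⁅g, h⁆⁻¹ * (⁅g, h⁆ * (k : G)⁻¹) := by
            rw [← h5]
        _ = ⁅g, h⁆ * (k : G)⁻¹ * x := by group
    rw [hC, Subgroup.mem_bot] at h2
    have h3 : ⁅g, h⁆ = k := by
      rw [mul_inv_eq_one] at h2
      exact h2
    rw [h3]
    exact k.2
  · have h1 : commutator K = ⊤ := by
      have hn : (commutator K).Normal := inferInstance
      rcases hn.eq_bot_or_eq_top with h | h
      · exfalso
        apply hKs
        have hcomm : ∀ a b : K, a * b = b * a := by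
          intro a b
          have h3 : ⁅a, b⁆ ∈ commutator K :=
            Subgroup.commutator_mem_commutator (Subgroup.mem_top _) (Subgroup.mem_top _)
          rwa [h, Subgroup.mem_bot, commutatorElement_eq_one_iff_mul_comm] at h3
        exact Group.isSolvable_of_comm hcomm
      · exact h
    have h2 : (commutator K).map K.subtype ≤ commutator G := by
      rw [commutator_def, commutator_def, Subgroup.map_commutator]
      exact Subgroup.commutator_mono le_top le_top
    rw [h1] at h2
    calc K = (⊤ : Subgroup K).map K.subtype := by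
          rw [← MonoidHom.range_eq_map, Subgroup.range_subtype]
      _ ≤ commutator G := h2

/-- The final isomorphism `G'/O(G') ≃* K`. -/
theorem nonempty_equiv {G : Type*} [Group G] [Finite G] {K : Subgroup (G ⧸ oddCore G)}
    (hK : commutator (G ⧸ oddCore G) = K) :
    Nonempty (↥(commutator G) ⧸ oddCore ↥(commutator G) ≃* K) := by
  set π := QuotientGroup.mk' (oddCore G) with hπ
  have hmap : (commutator G).map π = K := by
    rw [← hK, commutator_def, commutator_def, Subgroup.map_commutator,
      ← MonoidHom.range_eq_map, MonoidHom.range_eq_top.2 (QuotientGroup.mk'_surjective _)]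
  let f : ↥(commutator G) →* K := (π.comp (commutator G).subtype).codRestrict K (by
    intro x
    rw [← hmap]
    exact ⟨x, x.2, rfl⟩)
  have hf : Function.Surjective f := by
    rintro ⟨y, hy⟩
    rw [← hmap] at hy
    obtain ⟨x, hx, rfl⟩ := hy
    exact ⟨⟨x, hx⟩, rfl⟩
  have hker : f.ker = oddCore ↥(commutator G) := by
    have h1 := Lib.Cores.map_subtype_pPrimeCore (G := G) 2 (N := commutator G) inferInstance
    ext x
    constructor
    · intro hx
      have h2 : ((f x : K) : G ⧸ oddCore G) = 1 := by
        rw [MonoidHom.mem_ker.1 hx]; rfl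
      have h3 : (x : G) ∈ oddCore G := (QuotientGroup.eq_one_iff (x : G)).1 h2
      have h4 : (x : G) ∈ (pPrimeCore 2 ↥(commutator G)).map (commutator G).subtype := by
        rw [h1]
        exact ⟨x.2, h3⟩
      obtain ⟨y, hy, hyx⟩ := h4
      have : y = x := Subtype.ext hyx
      exact this ▸ hy
    · intro hx
      have h4 : (x : G) ∈ (pPrimeCore 2 ↥(commutator G)).map (commutator G).subtype := ⟨x, hx, rfl⟩
      rw [h1] at h4
      rw [MonoidHom.mem_ker]
      apply Subtype.ext
      exact (QuotientGroup.eq_one_iff (x : G)).2 h4.2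
  exact ⟨(QuotientGroup.quotientMulEquivOfEq hker.symm).trans
    (QuotientGroup.quotientKerEquivOfSurjective f hf)⟩

/-- **Reduction.** -/
theorem reduction {G : Type*} [Group G] [Finite G] (hG : ¬ Group.IsSolvable G)
    (hcore : Group.IsSolvable (oddCore G)) (hL : LocSolv G) :
    ∃ K : Subgroup (G ⧸ oddCore G), IsSimpleGroup K ∧ ¬ Group.IsSolvable K ∧ LocSolv K ∧
      (∀ p k : ℕ, SectionalPRankLE p k G → SectionalPRankLE p k K) ∧
      (commutator (MulAut K) ≤ (MulAut.conj : K →* MulAut K).range →
        Nonempty (↥(commutator G) ⧸ oddCore ↥(commutator G) ≃* K)) := by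
  have hodd : Odd (Nat.card (oddCore G)) :=
    Nat.coprime_two_right.1 (Lib.Cores.pPrimeCore_coprime (G := G) 2)
  have hG' : ¬ Group.IsSolvable (G ⧸ oddCore G) := by
    intro h
    apply hG
    exact Group.isSolvable_of_ker_le_range (oddCore G).subtype (QuotientGroup.mk' (oddCore G))
      (by rw [QuotientGroup.ker_mk', Subgroup.range_subtype])
  have hcore' : oddCore (G ⧸ oddCore G) = ⊥ := Lib.Cores.pPrimeCore_quotient_pPrimeCore 2
  have hL' : LocSolv (G ⧸ oddCore G) := hL.quotient _ hodd
  obtain ⟨K, hKn, hKs, hKns, hC⟩ := exists_simple_normal hG' hcore' hL'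
  refine ⟨K, hKs, hKns, hL'.subgroup K, ?_, ?_⟩
  · intro p k h
    exact sectional_of_injective (sectional_quotient h _) K.subtype K.subtype_injective
  · intro hout
    exact nonempty_equiv (commutator_eq hKn hKs hKns hC hout)

end Cfsg.Agent.SectRankFour.Socle
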