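import Cfsg.Agent.SectRankFour.C2.LemmaT
import Cfsg.Agent.SectRankFour.C2.BOne
import Cfsg.Agent.SectRankFour.C2.BTwoC
import Cfsg.Agent.SectRankFour.C2.BThree
import Cfsg.Agent.SectRankFour.C2.Fin64
import Cfsg.Agent.SectRankFour.C2.FinAut
import Cfsg.Agent.SectRankFour.C2.PermFour
import Cfsg.Agent.SectRankFour.Socle
import Cfsg.Agent.MinSimple.CaseOneEnd
import Cfsg.Agent.S0518

/-!
# S0517: simple groups of characteristic 2 type, solvable 2-locals, sectional 2-rank at most 4

Such a group of 2-rank at least 3 has a strongly embedded subgroup: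

* the Sylow 2-subgroup `S` lies in a unique maximal 2-local: `MinSimple.CaseOneEnd.result`;
* `C_G(Ω₁Z(S)) ≤ N_G(S)`: S0518;
* otherwise there is a `Pair` (`LemmaT.exists_pair`), and `false_of_pair`.
-/

set_option autoImplicit false

namespace Cfsg.Agent.SectRankFour.Core

open Subgroup Cfsg Cfsg.Agent.MinSimple.MinParabolic Cfsg.Agent.MinSimple.VModule
open Cfsg.Agent.ZN (o2 zc zl)
open Cfsg.Agent.SectRankFour.C2 Cfsg.Agent.SectRankFour.C2.Defs

universe u

variable {G : Type u} [Group G] [Finite G]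

/-- There is no `Pair`. -/
theorem false_of_pair {S P1 P2 : Subgroup G} (h : Pair S P1 P2) : False := by
  obtain ⟨T, rfl⟩ := h.syl
  have hV := BOne.le_o2 h
  by_cases hc : ∀ x ∈ vh (T : Subgroup G) P1 P2, ∀ y ∈ vh (T : Subgroup G) P1 P2, x * y = y * x
  · rcases BThree.main h hV hc with ⟨a, b, u, s, x, hconf⟩ | ⟨a, b, u, f, s, x, hconf⟩
    · exact Fin64.false h.hyp T hconf
    · exact FinAut.Pair.false_of_conf128 h hconf
  · obtain ⟨a, b, u, s, x, hconf⟩ := BTwoC.main h hV hc
    exact Fin64.false h.hyp T hconf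

/-- **Core of S0517.** -/
theorem exists_stronglyEmbedded [hG : IsSimpleGroup G] (hna : ¬ IsMulCommutative G)
    (hL : Socle.LocSolv G) (h4 : SectionalPRankLE 2 4 G) (hr : ¬ PRankLE 2 2 G)
    (hchar : IsCharacteristicTwoType G) : ∃ H : Subgroup G, IsStronglyEmbedded H := by
  by_contra hse
  push Not at hse
  have hfact : Fact (Nat.Prime 2) := ⟨Nat.prime_two⟩
  have hnab : ∃ a b : G, a * b ≠ b * a := by
    by_contra hcon
    push Not at hcon
    exact hna ⟨⟨hcon⟩⟩
  -- `G` is not a 2-group
  have hnp : ¬ IsPGroup 2 G := by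
    intro hp
    obtain ⟨a, b, hab⟩ := hnab
    have h1 := hp.center_nontrivial
    rcases hG.eq_bot_or_eq_top_of_normal (center G) inferInstance with h2 | h2
    · rw [h2] at h1
      exact not_nontrivial _ h1
    · have : b ∈ center G := by rw [h2]; trivial
      exact hab (mem_center_iff.mp this a)
  have hcore : pCore 2 G = ⊥ := by
    rcases hG.eq_bot_or_eq_top_of_normal _ (Lib.Cores.pCore_normal (G := G) 2) with h1 | h1
    · exact h1
    · exact absurd ((Lib.Cores.pCore_isPGroup (G := G) 2).of_equiv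
        ((MulEquiv.subgroupCongr h1).trans Subgroup.topEquiv)) hnp
  have hidx : ∀ N : Subgroup G, N.Normal → N.index ≠ 2 := by
    intro N hN hi
    obtain ⟨a, b, hab⟩ := hnab
    rcases hG.eq_bot_or_eq_top_of_normal N hN with rfl | rfl
    · rw [Subgroup.index_bot] at hi
      have : IsCyclic G := isCyclic_of_prime_card (p := 2) (hp := ⟨Nat.prime_two⟩) hi
      exact hab ((IsCyclic.isMulCommutative (α := G)).is_comm.comm a b)
    · rw [Subgroup.index_top] at hi
      omega
  have hyp : Hyp G := ⟨hG, hL, hchar, h4, hr⟩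
  -- `C_G(Z) ≤ N_G(S)` for all `S`
  have hZ : ∀ S : Sylow 2 G,
      centralizer (zc (S : Subgroup G) : Set G) ≤ normalizer ((S : Subgroup G) : Set G) := by
    intro S
    by_contra hZ
    have hC1 : ¬ ∃ M : Subgroup G, IsMaximalTwoLocal M ∧ (S : Subgroup G) ≤ M ∧
        ∀ N : Subgroup G, IsTwoLocal N → (S : Subgroup G) ≤ N → N ≤ M := by
      rintro ⟨M, hM, hSM, hall⟩
      exact hr (MinSimple.CaseOneEnd.result hchar hL hcore hidx hse S hM.1 hSM hall)
    obtain ⟨P1, P2, hP⟩ := LemmaT.exists_pair hyp S hC1 hZ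
    exact false_of_pair hP
  have hZ' : ∀ S : Sylow 2 G,
      centralizer {z : G | z ∈ (S : Subgroup G) ∧ z ^ 2 = 1 ∧
        ∀ s ∈ (S : Subgroup G), s * z = z * s} ≤ normalizer ((S : Subgroup G) : Set G) := by
    intro S
    refine le_trans (centralizer_le ?_) (hZ S)
    intro z hz
    obtain ⟨h5, h6, h7⟩ := mem_zc.mp hz
    exact ⟨h5, h7, h6⟩
  -- `G` is generated by its elements of odd order
  have htop : (⊤ : Subgroup G) = closure {g : G | Odd (orderOf g)} := by
    have hn : (closure {g : G | Odd (orderOf g)}).Normal := by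
      refine ⟨fun x hx g => ?_⟩
      refine closure_induction (p := fun x _ => g * x * g⁻¹ ∈ closure {g : G | Odd (orderOf g)})
        ?_ ?_ ?_ ?_ hx
      · intro y hy
        refine subset_closure ?_
        show Odd (orderOf (g * y * g⁻¹))
        have h5 : orderOf (g * y * g⁻¹) = orderOf y := by
          have := orderOf_injective (MulAut.conj g).toMonoidHom (MulAut.conj g).injective y
          simpa using this
        rw [h5]; exact hy
      · rw [mul_one, mul_inv_cancel]; exact one_mem _
      · intro x y _ _ h5 h6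
        have h7 : g * (x * y) * g⁻¹ = (g * x * g⁻¹) * (g * y * g⁻¹) := by group
        rw [h7]; exact mul_mem h5 h6
      · intro x _ h5
        have h7 : g * x⁻¹ * g⁻¹ = (g * x * g⁻¹)⁻¹ := by group
        rw [h7]; exact inv_mem h5
    rcases hG.eq_bot_or_eq_top_of_normal _ hn with h5 | h5
    · exfalso
      apply hnp
      rw [IsPGroup.iff_orderOf]
      intro g
      refine ⟨(orderOf g).factorization 2, ?_⟩
      set m := ordProj[2] (orderOf g) with hm
      have h6 : Odd (orderOf (g ^ m)) := by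
        rw [orderOf_pow' g (pow_pos two_pos _).ne', Nat.gcd_eq_right (Nat.ordProj_dvd _ _)]
        have h7 := Nat.coprime_ordCompl Nat.prime_two (orderOf_pos g).ne'
        exact Nat.coprime_two_left.mp h7
      have h7 : g ^ m ∈ closure {g : G | Odd (orderOf g)} := subset_closure h6
      rw [h5, mem_bot] at h7
      exact Nat.dvd_antisymm (orderOf_dvd_of_pow_eq_one h7) (Nat.ordProj_dvd _ _)
    · exact h5.symm
  rcases S0518.result hchar hcore hL hZ' ⊤ htop with h | ⟨M₁, M₂, -, hM₁, -, ⟨e⟩, -, -⟩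
  · obtain ⟨K, hK⟩ := h
    exact hse K hK
  · apply hr
    have h5 := PermFour.pRankLE hM₁.1 e
    intro A hA hA2
    have hc : Nat.card (A.subgroupOf ⊤) = Nat.card A :=
      Nat.card_congr (Subgroup.subgroupOfEquivOfLe le_top).toEquiv
    rw [← hc]
    refine h5 _ ?_ ?_
    · exact ⟨⟨fun x y => Subtype.ext (Subtype.ext (by
        have := congrArg Subtype.val (hA.is_comm.comm ⟨x.1.1, mem_subgroupOf.mp x.2⟩
          ⟨y.1.1, mem_subgroupOf.mp y.2⟩)
        exact this))⟩⟩
    · intro a ha
      exact Subtype.ext (hA2 a (mem_subgroupOf.mp ha))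

end Cfsg.Agent.SectRankFour.Core
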