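import Mathlib
import Cfsg.Prelude.Def_CaseTheorems
import Cfsg.Prelude.Def_Sz
import Cfsg.Agent.SectRankFour.Socle
import Cfsg.Agent.Classification.PSLTwoEvenSylow
import Cfsg.Agent.SuzukiRankOne.PSUModel
import Cfsg.Agent.LieRecognition.SzMatrix
import Cfsg.Agent.S1163

/-!
# Sectional 2-rank of the groups of Bender type

`PSL₂(2^n)` has sectional 2-rank at least `n`, `Sz(q)` at least `log q`, `PSU₃(q)` at least `2 log q`.
-/

set_option autoImplicit false

namespace Cfsg.Agent.SectRankFour.Rank

open Cfsg Cfsg.Agent.SectRankFour.Socle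

/-- A homomorphic image of a subgroup which is elementary abelian has order at most `p ^ k`. -/
theorem card_le_of_surjective {G A : Type*} [Group G] [Finite G] [Group A] [Finite A] {p k : ℕ}
    (h : SectionalPRankLE p k G) (f : G →* A) (hf : Function.Surjective f)
    (hc : ∀ a b : A, a * b = b * a) (hp : ∀ a : A, a ^ p = 1) : Nat.card A ≤ p ^ k := by
  have h1 := sectional_quotient h f.ker
  have e : (G ⧸ f.ker) ≃* A := QuotientGroup.quotientKerEquivOfSurjective f hf
  have h2 : SectionalPRankLE p k A := sectional_of_injective h1 e.symm.toMonoidHom e.symm.injective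
  rw [TwoFusion.SectionalRank.sectionalPRankLE_iff] at h2
  have h3 := h2 ⊤ ⊥
    { le := bot_le
      comm := by
        intro a _ b _
        rw [Subgroup.mem_bot, hc a b]
        group
      pow := by
        intro a _
        rw [Subgroup.mem_bot]
        exact hp a }
  rwa [Subgroup.card_bot, mul_one, Subgroup.card_top] at h3

theorem char_two_of_even {F : Type*} [Field F] [Fintype F] (h : Even (Fintype.card F)) : CharP F 2 := by
  obtain ⟨p, hpc, n, hp, hn⟩ := FiniteField.card' F
  have h2 : 2 ∣ p ^ (n : ℕ) := by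
    rw [← hn]
    exact even_iff_two_dvd.1 h
  have h3 := (Nat.prime_dvd_prime_iff_eq Nat.prime_two hp).1 (Nat.prime_two.dvd_of_dvd_pow h2)
  rwa [← h3] at hpc

theorem card_le_psl_two {F K : Type*} [Field F] [Fintype F] [CharP F 2] [Group K] [Finite K] {k : ℕ}
    (h : SectionalPRankLE 2 k K) (e : K ≃* Matrix.ProjectiveSpecialLinearGroup (Fin 2) F) :
    Fintype.card F ≤ 2 ^ k := by
  have h1 : SectionalPRankLE 2 k (Multiplicative F) :=
    sectional_of_injective h (e.symm.toMonoidHom.comp Classification.PSLTwoEvenSylow.uniP)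
      (e.symm.injective.comp Classification.PSLTwoEvenSylow.uniP_injective)
  have h2 := card_le_of_surjective h1 (MonoidHom.id (Multiplicative F)) Function.surjective_id
    (fun a b => mul_comm a b) (fun a => by
      rw [pow_two]
      exact CharTwo.add_self_eq_zero (Multiplicative.toAdd a))
  have h3 : Nat.card (Multiplicative F) = Fintype.card F := by
    rw [← Nat.card_eq_fintype_card]
    exact Nat.card_congr Multiplicative.toAdd
  rwa [h3] at h2

theorem card_le_sz {F K : Type*} [Field F] [Fintype F] [Group K] [Finite K] {k m : ℕ}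
    (hF : Fintype.card F = 2 ^ (2 * m + 1))
    (h : SectionalPRankLE 2 k K) (e : K ≃* Lie.Sz F (2 ^ (m + 1))) :
    2 ^ (2 * m + 1) ≤ 2 ^ k := by
  have H := LieRecognition.SzMatrix.good hF
  have hchar : CharP F 2 := char_two_of_even (by rw [hF]; exact (Nat.even_pow.2 ⟨even_two, by omega⟩))
  let f : Multiplicative F →* Lie.Sz F (2 ^ (m + 1)) :=
    { toFun := fun b => H.u 0 (Multiplicative.toAdd b)
      map_one' := H.u_zero
      map_mul' := by
        intro a b
        rw [H.u_mul, add_zero, zero_mul, add_zero]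
        rfl }
  have hf : Function.Injective f := by
    intro a b hab
    exact (H.u_inj hab).2
  have h1 : SectionalPRankLE 2 k (Multiplicative F) :=
    sectional_of_injective h (e.symm.toMonoidHom.comp f) (e.symm.injective.comp hf)
  have h2 := card_le_of_surjective h1 (MonoidHom.id (Multiplicative F)) Function.surjective_id
    (fun a b => mul_comm a b) (fun a => by
      rw [pow_two]
      exact CharTwo.add_self_eq_zero (Multiplicative.toAdd a))
  have h3 : Nat.card (Multiplicative F) = Fintype.card F := by
    rw [← Nat.card_eq_fintype_card]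
    exact Nat.card_congr Multiplicative.toAdd
  rw [h3, hF] at h2
  exact h2

/-- A group of type `Sz(q)` with sectional 2-rank at most 4 has order 29120. -/
theorem card_of_isoSuzuki {K : Type*} [Group K] [Finite K] (h : SectionalPRankLE 2 4 K)
    (hK : Lie.IsoSuzuki K) : Nat.card K = 29120 := by
  obtain ⟨F, _, _, m, hm, hF, ⟨e⟩⟩ := hK
  have h1 := card_le_sz hF h e
  have h2 : 2 * m + 1 ≤ 4 := (Nat.pow_le_pow_iff_right (by norm_num)).1 h1
  have h3 : m = 1 := by omega
  subst h3
  rw [Nat.card_congr e.toEquiv, (S1163.result hm hF).1]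
  norm_num

theorem card_le_psu {F K : Type*} [Field F] [Fintype F] [Group K] [Finite K] {k n : ℕ} (hn : 1 ≤ n)
    (hF : Fintype.card F = (2 ^ n) ^ 2)
    (h : SectionalPRankLE 2 k K) (e : K ≃* PSU 3 F (2 ^ n)) :
    (2 ^ n) ^ 2 ≤ 2 ^ k := by
  have hchar : CharP F 2 := char_two_of_even (by
    rw [hF, ← pow_mul]; exact (Nat.even_pow.2 ⟨even_two, by omega⟩))
  have hF' : Nat.card F = (2 ^ n) ^ 2 := by rw [Nat.card_eq_fintype_card, hF]
  let σ : F →+* F := iterateFrobenius F 2 n
  have hs : ∀ x, σ x = x ^ (2 ^ n) := fun x => iterateFrobenius_def 2 n x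
  have hσ : Fact (∀ x, σ (σ x) = x) := ⟨by
    intro x
    rw [hs, hs, ← pow_mul, ← pow_two, ← hF]
    exact FiniteField.pow_card x⟩
  obtain ⟨-, S, -, ψ, -⟩ := SuzukiRankOne.PSUModel.exists_model (F := F) (σ := σ) hn hs hF'
  have hfin : Finite (LieRecognition.HermHeis.Heis σ) := Finite.of_equiv S ψ.symm.toEquiv
  have h1 : SectionalPRankLE 2 k (LieRecognition.HermHeis.Heis σ) :=
    sectional_of_injective h (e.symm.toMonoidHom.comp (S.subtype.comp ψ.toMonoidHom))
      (e.symm.injective.comp (S.subtype_injective.comp ψ.injective))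
  let g : LieRecognition.HermHeis.Heis σ →* Multiplicative F :=
    { toFun := fun x => Multiplicative.ofAdd x.a
      map_one' := rfl
      map_mul' := fun x y => rfl }
  have hq : 1 < 2 ^ n := Nat.one_lt_two_pow (by omega)
  have hg : Function.Surjective g := by
    intro y
    obtain ⟨x, hx⟩ := LieRecognition.HermHeis.exists_heis_a (σ := σ) hq hs hF' (Multiplicative.toAdd y)
    exact ⟨x, congrArg Multiplicative.ofAdd hx⟩
  have h2 := card_le_of_surjective h1 g hg
    (fun a b => mul_comm a b) (fun a => by
      rw [pow_two]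
      exact CharTwo.add_self_eq_zero (Multiplicative.toAdd a))
  have h3 : Nat.card (Multiplicative F) = Fintype.card F := by
    rw [← Nat.card_eq_fintype_card]
    exact Nat.card_congr Multiplicative.toAdd
  rw [h3, hF] at h2
  exact h2

end Cfsg.Agent.SectRankFour.Rank
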