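import Mathlib
import Cfsg.Agent.Lib.AutSL2
import Cfsg.Agent.Lib.AutSL2Out

/-!
# Groups with abelian outer automorphism group

`OutComm K` : every commutator of automorphisms of `K` is inner.

* `OutComm.congr`, `outComm_of_card` (trivial centre and `|Aut K| = m |K|` with `m ≤ 5`),
  `outComm_psl_two`.

`OutAb K` : `commutator (MulAut K) ≤ (MulAut.conj : K →* MulAut K).range` (equivalent, `outAb_iff`);
`OutAb.congr`, `psl_two`.
-/

set_option autoImplicit false

namespace Cfsg.Agent.SectRankFour.OutAb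

/-- Every commutator of automorphisms is inner, that is, `Out(K)` is abelian. -/
def OutComm (K : Type*) [Group K] : Prop :=
  ∀ α β : MulAut K, ∃ k : K, ∀ x, (α * β * α⁻¹ * β⁻¹) x = k * x * k⁻¹

variable {K L : Type*} [Group K] [Group L]

theorem OutComm.congr (e : K ≃* L) (h : OutComm K) : OutComm L := by
  intro α β
  let c : MulAut L → MulAut K := fun γ => (e.trans γ).trans e.symm
  obtain ⟨k, hk⟩ := h (c α) (c β)
  refine ⟨e k, fun x => ?_⟩
  have hinv : ∀ γ : MulAut L, (c γ)⁻¹ = c γ⁻¹ := by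
    intro γ
    rw [inv_eq_iff_mul_eq_one]
    apply MulEquiv.ext
    intro x
    change e.symm (γ (e (e.symm (γ⁻¹ (e x))))) = x
    rw [MulEquiv.apply_symm_apply, MulAut.apply_inv_self, MulEquiv.symm_apply_apply]
  have h1 := hk (e.symm x)
  rw [hinv, hinv] at h1
  have h2 : (c α * c β * c α⁻¹ * c β⁻¹) (e.symm x) = e.symm ((α * β * α⁻¹ * β⁻¹) x) := by
    change e.symm (α (e (e.symm (β (e (e.symm (α⁻¹ (e (e.symm (β⁻¹ (e (e.symm x))))))))))))=
      e.symm (α (β (α⁻¹ (β⁻¹ x))))
    simp only [MulEquiv.apply_symm_apply]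
  rw [h2] at h1
  have h3 := congrArg e h1
  rw [MulEquiv.apply_symm_apply, map_mul, map_mul, map_inv, MulEquiv.apply_symm_apply] at h3
  exact h3

/-- If there is a homomorphism from `MulAut K` to a commutative structure with kernel the inner automorphisms. -/
theorem outComm_of_quotient [hn : (MulAut.conj (G := K)).range.Normal]
    (h : ∀ a b : MulAut K ⧸ (MulAut.conj (G := K)).range, a * b = b * a) : OutComm K := by
  intro α β
  have h1 : α * β * α⁻¹ * β⁻¹ ∈ (MulAut.conj (G := K)).range := by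
    rw [← QuotientGroup.eq_one_iff]
    have h2 := h (α : MulAut K ⧸ (MulAut.conj (G := K)).range) (β : _)
    rw [QuotientGroup.mk_mul, QuotientGroup.mk_mul, QuotientGroup.mk_mul, QuotientGroup.mk_inv,
      QuotientGroup.mk_inv, h2]
    group
  obtain ⟨k, hk⟩ := h1
  refine ⟨k, fun x => ?_⟩
  rw [← hk]
  rfl

theorem range_conj_normal : (MulAut.conj (G := K)).range.Normal := by
  constructor
  rintro _ ⟨k, rfl⟩ α
  refine ⟨α k, ?_⟩
  apply MulEquiv.ext
  intro x
  change α k * x * (α k)⁻¹ = α (k * (α⁻¹ x) * k⁻¹)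
  rw [map_mul, map_mul, map_inv, MulAut.apply_inv_self]

/-- A group of order at most 5 is commutative. -/
theorem comm_of_card_le_five {Q : Type*} [Group Q] [Finite Q] (h : Nat.card Q ≤ 5) (a b : Q) :
    a * b = b * a := by
  have hpos : 0 < Nat.card Q := Nat.card_pos
  have hcyc : ∀ p : ℕ, p.Prime → Nat.card Q = p → a * b = b * a := by
    intro p hp hc
    have := Fact.mk hp
    have : IsCyclic Q := isCyclic_of_prime_card hc
    exact (IsCyclic.isMulCommutative (α := Q)).is_comm.comm a b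
  have : Nat.card Q = 1 ∨ Nat.card Q = 2 ∨ Nat.card Q = 3 ∨ Nat.card Q = 4 ∨ Nat.card Q = 5 := by omega
  rcases this with h | h | h | h | h
  · have : Subsingleton Q := (Nat.card_eq_one_iff_unique.1 h).1
    exact Subsingleton.elim _ _
  · exact hcyc 2 Nat.prime_two h
  · exact hcyc 3 Nat.prime_three h
  · have := Fact.mk Nat.prime_two
    exact (IsPGroup.commGroupOfCardEqPrimeSq (p := 2) (by rw [h]; norm_num)).mul_comm a b
  · exact hcyc 5 Nat.prime_five h

theorem outComm_of_card [Finite K] (hZ : Subgroup.center K = ⊥) {m : ℕ} (hm : m ≤ 5)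
    (hc : Nat.card (MulAut K) = m * Nat.card K) : OutComm K := by
  have hn : (MulAut.conj (G := K)).range.Normal := range_conj_normal
  have hinj : Function.Injective (MulAut.conj (G := K)) := by
    rw [← MonoidHom.ker_eq_bot_iff, eq_bot_iff]
    intro x hx
    rw [← hZ, Subgroup.mem_center_iff]
    intro g
    have := DFunLike.congr_fun (MonoidHom.mem_ker.1 hx) g
    change x * g * x⁻¹ = g at this
    rw [mul_inv_eq_iff_eq_mul] at this
    exact this.symm
  have h1 : Nat.card (MulAut.conj (G := K)).range = Nat.card K :=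
    Nat.card_congr (MonoidHom.ofInjective hinj).symm.toEquiv
  apply outComm_of_quotient
  apply comm_of_card_le_five
  have h2 := (MulAut.conj (G := K)).range.card_eq_card_quotient_mul_card_subgroup
  rw [h1, hc] at h2
  have h3 : m = Nat.card (MulAut K ⧸ (MulAut.conj (G := K)).range) :=
    Nat.eq_of_mul_eq_mul_right Nat.card_pos h2
  omega

/-- `Out(PSL₂(F))` is abelian. -/
theorem outComm_psl_two (F : Type*) [Field F] [Finite F] :
    OutComm (Matrix.ProjectiveSpecialLinearGroup (Fin 2) F) := by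
  intro α β
  let π : Matrix.SpecialLinearGroup (Fin 2) F →* Matrix.ProjectiveSpecialLinearGroup (Fin 2) F :=
    QuotientGroup.mk' _
  have hπ : Function.Surjective π := QuotientGroup.mk'_surjective _
  have hk : π.ker ≤ Subgroup.center (Matrix.SpecialLinearGroup (Fin 2) F) := by
    rw [QuotientGroup.ker_mk']
  have key : ∀ γ : MulAut (Matrix.ProjectiveSpecialLinearGroup (Fin 2) F),
      ∃ δ : MulAut (Matrix.SpecialLinearGroup (Fin 2) F), ∀ x, γ (π x) = π (δ x) := by
    intro γ
    obtain ⟨g, σ, h⟩ := Lib.AutSL2.exists_gl_ringEquiv π hπ hk γ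
    exact ⟨Lib.SL2Mat.conjGL g * Lib.SL2Mat.fieldAut σ, h⟩
  have key2 : ∀ (γ : MulAut (Matrix.ProjectiveSpecialLinearGroup (Fin 2) F))
      (δ : MulAut (Matrix.SpecialLinearGroup (Fin 2) F)), (∀ x, γ (π x) = π (δ x)) →
      ∀ x, γ⁻¹ (π x) = π (δ⁻¹ x) := by
    intro γ δ h x
    rw [MulAut.inv_apply, MulEquiv.symm_apply_eq, h, MulAut.apply_inv_self]
  obtain ⟨a, ha⟩ := key α
  obtain ⟨b, hb⟩ := key β
  obtain ⟨s, hs⟩ := Lib.AutSL2Out.commutator_inner a b
  refine ⟨π s, fun y => ?_⟩
  obtain ⟨x, rfl⟩ := hπ y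
  change α (β (α⁻¹ (β⁻¹ (π x)))) = _
  rw [key2 β b hb, key2 α a ha, hb, ha]
  have := hs x
  change a (b (a⁻¹ (b⁻¹ x))) = _ at this
  rw [this, map_mul, map_mul, map_inv]

/-! ### The form `commutator (MulAut K) ≤ range conj` -/

/-- `Out(K)` is abelian. -/
def OutAb (K : Type*) [Group K] : Prop :=
  commutator (MulAut K) ≤ (MulAut.conj : K →* MulAut K).range

open scoped commutatorElement in
theorem outAb_iff : OutAb K ↔ OutComm K := by
  unfold OutAb
  rw [commutator_def, Subgroup.commutator_le]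
  constructor
  · intro h α β
    obtain ⟨k, hk⟩ := h α (Subgroup.mem_top α) β (Subgroup.mem_top β)
    refine ⟨k, fun x => ?_⟩
    rw [← commutatorElement_def, ← hk]
    rfl
  · intro h α _ β _
    obtain ⟨k, hk⟩ := h α β
    refine ⟨k, MulEquiv.ext fun x => ?_⟩
    rw [commutatorElement_def, hk]
    rfl

theorem OutAb.congr (e : K ≃* L) (h : OutAb L) : OutAb K :=
  outAb_iff.2 ((outAb_iff.1 h).congr e.symm)

theorem psl_two (F : Type*) [Field F] [Finite F] :
    OutAb (Matrix.ProjectiveSpecialLinearGroup (Fin 2) F) := outAb_iff.2 (outComm_psl_two F)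

end Cfsg.Agent.SectRankFour.OutAb
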