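import Mathlib

/-!
# Automorphisms and point stabilisers

* `exists_fixed` : a subgroup `H` of `K` whose order is not divisible by `|Ω|` and is large compared with
  the pointwise stabilisers has a fixed point.
* `exists_perm_of_aut` : if the subgroups of index `|Ω|` of a transitive group `K` have fixed points,
  every automorphism of `K` is induced by a permutation of `Ω`.
-/

set_option autoImplicit false

open scoped Nat

namespace Cfsg.Agent.SectRankFour.PermAut

variable {K Ω : Type*} [Group K] [MulAction K Ω]

theorem card_le_of_orbit [Finite K] [Finite Ω] (H : Subgroup K) (x : Ω) :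
    Nat.card H ≤ Nat.card (fixingSubgroup K (MulAction.orbit H x)) * (Nat.card (MulAction.orbit H x))! := by
  have : Finite H := inferInstance
  let f : H →* Equiv.Perm (MulAction.orbit H x) := MulAction.toPermHom H (MulAction.orbit H x)
  have h1 : Nat.card H = Nat.card f.ker * Nat.card f.range := by
    rw [← Subgroup.index_ker, Subgroup.card_mul_index]
  have h2 : Nat.card f.range ≤ (Nat.card (MulAction.orbit H x))! := by
    calc Nat.card f.range ≤ Nat.card (Equiv.Perm (MulAction.orbit H x)) :=
          Nat.card_le_card_of_injective _ f.range.subtype_injective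
      _ = _ := Nat.card_perm
  have h3 : Nat.card f.ker ≤ Nat.card (fixingSubgroup K (MulAction.orbit H x)) := by
    let g : f.ker → fixingSubgroup K (MulAction.orbit H x) := fun k => ⟨((k : H) : K), by
      rw [mem_fixingSubgroup_iff]
      intro y hy
      have := DFunLike.congr_fun (MonoidHom.mem_ker.1 k.2) (⟨y, hy⟩ : MulAction.orbit H x)
      exact congrArg Subtype.val this⟩
    apply Nat.card_le_card_of_injective g
    intro a b hab
    have h4 : (((a : f.ker) : H) : K) = ((b : f.ker) : H) :=
      congrArg (fun z : fixingSubgroup K (MulAction.orbit H x) => (z : K)) hab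
    exact Subtype.ext (Subtype.ext h4)
  rw [h1]
  exact Nat.mul_le_mul h3 h2

theorem exists_fixed [Finite K] [Fintype Ω] [Nonempty Ω] (H : Subgroup K)
    (hnt : ¬ Fintype.card Ω ∣ Nat.card H)
    (hb : ∀ O : Set Ω, 2 ≤ Nat.card O → 2 * Nat.card O ≤ Fintype.card Ω →
      Nat.card (fixingSubgroup K O) * (Nat.card O)! < Nat.card H) :
    ∃ y : Ω, ∀ h ∈ H, h • y = y := by
  classical
  by_contra hcon
  push Not at hcon
  have hbig : ∀ x : Ω, Fintype.card Ω < 2 * Nat.card (MulAction.orbit H x) := by
    intro x
    by_contra hle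
    push Not at hle
    have h2 : 2 ≤ Nat.card (MulAction.orbit H x) := by
      obtain ⟨h, hh, hx⟩ := hcon x
      have : Nontrivial (MulAction.orbit H x) :=
        ⟨⟨⟨h • x, ⟨⟨h, hh⟩, rfl⟩⟩, ⟨x, MulAction.mem_orbit_self x⟩, fun he => hx (congrArg Subtype.val he)⟩⟩
      exact Finite.one_lt_card
    exact absurd (card_le_of_orbit H x) (not_le.2 (hb _ h2 hle))
  obtain ⟨x⟩ := (inferInstance : Nonempty Ω)
  have hne : MulAction.orbit H x ≠ Set.univ := by
    intro h
    apply hnt
    have h1 := MulAction.index_stabilizer H x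
    rw [h, Set.ncard_univ, Nat.card_eq_fintype_card] at h1
    rw [← h1]
    exact Subgroup.index_dvd_card _
  obtain ⟨y, hy⟩ := (Set.ne_univ_iff_exists_notMem _).1 hne
  have hd : Disjoint (MulAction.orbit H x) (MulAction.orbit H y) := by
    rw [Set.disjoint_left]
    intro z hz hz2
    apply hy
    have h1 := MulAction.orbit_eq_iff.2 hz
    have h2 := MulAction.orbit_eq_iff.2 hz2
    rw [← h1, h2]
    exact MulAction.mem_orbit_self y
  have h3 : (MulAction.orbit H x).ncard + (MulAction.orbit H y).ncard ≤ Fintype.card Ω := by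
    rw [← Set.ncard_union_eq hd, ← Nat.card_eq_fintype_card, ← Set.ncard_univ]
    exact Set.ncard_le_ncard (Set.subset_univ _)
  have h4 := hbig x
  have h5 := hbig y
  rw [Nat.card_coe_set_eq] at h4 h5
  omega

/-- A transitive group all of whose subgroups of index `|Ω|` have fixed points: automorphisms are
induced by permutations. -/
theorem exists_perm_of_aut [Finite K] [Finite Ω] [MulAction.IsPretransitive K Ω] [Nonempty Ω]
    (hfix : ∀ H : Subgroup K, Nat.card Ω * Nat.card H = Nat.card K → ∃ y : Ω, ∀ h ∈ H, h • y = y)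
    (α : MulAut K) : ∃ π : Equiv.Perm Ω, ∀ (k : K) (x : Ω), π (k • x) = α k • π x := by
  classical
  obtain ⟨x0⟩ := (inferInstance : Nonempty Ω)
  have hcs : ∀ y : Ω, Nat.card Ω * Nat.card (MulAction.stabilizer K y) = Nat.card K := by
    intro y
    rw [← MulAction.index_stabilizer_of_transitive K y, Subgroup.index_mul_card]
  have hcH : Nat.card Ω * Nat.card ((MulAction.stabilizer K x0).map α.toMonoidHom) = Nat.card K := by
    rw [Subgroup.card_map_of_injective α.injective, hcs]
  obtain ⟨y0, hy0⟩ := hfix _ hcH
  have heq : (MulAction.stabilizer K x0).map α.toMonoidHom = MulAction.stabilizer K y0 := by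
    apply Subgroup.eq_of_le_of_card_ge
    · intro h hh
      exact hy0 h hh
    · have h1 := hcs y0
      have h2 : 0 < Nat.card Ω := Nat.card_pos
      rw [← hcH] at h1
      exact (Nat.eq_of_mul_eq_mul_left h2 h1).le
  have hiff : ∀ k : K, α k • y0 = y0 ↔ k • x0 = x0 := by
    intro k
    rw [← MulAction.mem_stabilizer_iff, ← MulAction.mem_stabilizer_iff, ← heq]
    constructor
    · rintro ⟨k', hk', he⟩
      have : k' = k := α.injective he
      rwa [← this]
    · intro hk
      exact ⟨k, hk, rfl⟩
  have hiff2 : ∀ k l : K, α k • y0 = α l • y0 ↔ k • x0 = l • x0 := by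
    intro k l
    have h1 := hiff (l⁻¹ * k)
    rw [map_mul, map_inv, mul_smul, mul_smul, inv_smul_eq_iff, inv_smul_eq_iff] at h1
    exact h1
  choose κ hκ using fun x : Ω => MulAction.exists_smul_eq K x0 x
  let f : Ω → Ω := fun x => α (κ x) • y0
  have hf : ∀ k : K, f (k • x0) = α k • y0 := by
    intro k
    exact (hiff2 _ _).2 (hκ _)
  have hinj : Function.Injective f := by
    intro x y hxy
    have := (hiff2 (κ x) (κ y)).1 hxy
    rwa [hκ, hκ] at this
  refine ⟨Equiv.ofBijective f ((Finite.injective_iff_bijective).1 hinj), fun k x => ?_⟩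
  change f (k • x) = α k • f x
  rw [← hκ x, smul_smul, hf, hf, map_mul, mul_smul]

end Cfsg.Agent.SectRankFour.PermAut
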