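import Mathlib
import Cfsg.Agent.SectRankFour.OutAb
import Cfsg.Agent.SectRankFour.PermAut

/-!
# Automorphisms of `A₇`

* `exists_perm` : every automorphism of `A₇` is conjugation by a permutation of the 7 points.
* `outComm_alt_seven`, `outAb_alt_seven`.
-/

set_option autoImplicit false

open scoped Nat

namespace Cfsg.Agent.SectRankFour.AutAlt

open Cfsg.Agent.SectRankFour.OutAb Cfsg.Agent.SectRankFour.PermAut

abbrev A7 := alternatingGroup (Fin 7)

theorem card_A7 : Nat.card A7 = 2520 := by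
  rw [nat_card_alternatingGroup, Nat.card_eq_fintype_card, Fintype.card_fin]
  decide

theorem card_fixing_le (O : Set (Fin 7)) :
    Nat.card (fixingSubgroup A7 O) ≤ (7 - Nat.card O)! := by
  classical
  have hmem : ∀ g : fixingSubgroup A7 O, ∀ x ∈ O, ((g : A7) : Equiv.Perm (Fin 7)) x = x := by
    intro g x hx
    exact (mem_fixingSubgroup_iff A7).1 g.2 x hx
  have hmem2 : ∀ g : fixingSubgroup A7 O, ∀ x, x ∈ Oᶜ ↔ ((g : A7) : Equiv.Perm (Fin 7)) x ∈ Oᶜ := by
    intro g x
    rw [Set.mem_compl_iff, Set.mem_compl_iff, not_iff_not]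
    constructor
    · intro hx
      rw [hmem g x hx]
      exact hx
    · intro hx
      have h1 := hmem g _ hx
      have h2 := ((g : A7) : Equiv.Perm (Fin 7)).injective h1
      rwa [h2] at hx
  let f : fixingSubgroup A7 O → Equiv.Perm (Oᶜ : Set (Fin 7)) := fun g =>
    (((g : A7) : Equiv.Perm (Fin 7))).subtypePerm (fun x => (hmem2 g x).symm)
  have hf : Function.Injective f := by
    intro g h hgh
    apply Subtype.ext
    apply Subtype.ext
    apply Equiv.ext
    intro x
    by_cases hx : x ∈ O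
    · rw [hmem g x hx, hmem h x hx]
    · exact congrArg Subtype.val (DFunLike.congr_fun hgh (⟨x, hx⟩ : (Oᶜ : Set (Fin 7))))
  have h1 := Nat.card_le_card_of_injective f hf
  rw [Nat.card_perm] at h1
  have h2 : Nat.card (Oᶜ : Set (Fin 7)) = 7 - Nat.card O := by
    rw [Nat.card_coe_set_eq, Nat.card_coe_set_eq]
    have := Set.ncard_add_ncard_compl O
    rw [Nat.card_eq_fintype_card, Fintype.card_fin] at this
    omega
  rwa [h2] at h1

theorem exists_perm (α : MulAut A7) :
    ∃ π : Equiv.Perm (Fin 7), ∀ k : A7, ((α k : A7) : Equiv.Perm (Fin 7)) = π * k * π⁻¹ := by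
  classical
  have htr : MulAction.IsPretransitive A7 (Fin 7) :=
    alternatingGroup.isPretransitive_of_three_le_card (Fin 7) (by simp)
  obtain ⟨π, hπ⟩ := exists_perm_of_aut (K := A7) (Ω := Fin 7) (fun H hH => by
    rw [card_A7, Nat.card_eq_fintype_card, Fintype.card_fin] at hH
    have hH' : Nat.card H = 360 := by omega
    apply exists_fixed H
    · rw [hH', Fintype.card_fin]; decide
    · intro O h2 h3
      rw [Fintype.card_fin] at h3
      rw [hH']
      have h4 := card_fixing_le O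
      have h5 : Nat.card O = 2 ∨ Nat.card O = 3 := by omega
      rcases h5 with h5 | h5
      · rw [h5] at h4 ⊢
        calc _ ≤ (7 - 2)! * 2 ! := Nat.mul_le_mul_right _ h4
          _ < 360 := by decide
      · rw [h5] at h4 ⊢
        calc _ ≤ (7 - 3)! * 3 ! := Nat.mul_le_mul_right _ h4
          _ < 360 := by decide) α
  refine ⟨π, fun k => ?_⟩
  rw [eq_mul_inv_iff_mul_eq]
  apply Equiv.ext
  intro x
  exact (hπ k x).symm

/-- `Out(A₇)` is abelian. -/
theorem outComm_alt_seven : OutComm (alternatingGroup (Fin 7)) := by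
  intro α β
  obtain ⟨a, ha⟩ := exists_perm α
  obtain ⟨b, hb⟩ := exists_perm β
  have hinv : ∀ (γ : MulAut A7) (c : Equiv.Perm (Fin 7)),
      (∀ k : A7, ((γ k : A7) : Equiv.Perm (Fin 7)) = c * k * c⁻¹) →
      ∀ k : A7, ((γ⁻¹ k : A7) : Equiv.Perm (Fin 7)) = c⁻¹ * k * c := by
    intro γ c h k
    have h1 := h (γ⁻¹ k)
    rw [MulAut.apply_inv_self] at h1
    rw [h1]
    group
  refine ⟨⟨a * b * a⁻¹ * b⁻¹, ?_⟩, fun x => ?_⟩
  · rw [Equiv.Perm.mem_alternatingGroup, map_mul, map_mul, map_mul, map_inv, map_inv]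
    rw [mul_comm (Equiv.Perm.sign a)]
    group
  · apply Subtype.ext
    change ((α (β (α⁻¹ (β⁻¹ x))) : A7) : Equiv.Perm (Fin 7)) = _
    rw [ha, hb, hinv α a ha, hinv β b hb]
    change _ = (a * b * a⁻¹ * b⁻¹) * (x : Equiv.Perm (Fin 7)) * (a * b * a⁻¹ * b⁻¹)⁻¹
    group

theorem outAb_alt_seven : OutAb (alternatingGroup (Fin 7)) := outAb_iff.2 outComm_alt_seven

end Cfsg.Agent.SectRankFour.AutAlt
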