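import Mathlib
import Cfsg.Prelude.Def_Involutions
import Cfsg.Agent.TwoFusion.StronglyEmbeddedBasic

/-!
# Simple groups of order 29120 with a strongly embedded subgroup: the outer automorphism group is abelian

`K` simple of order `29120 = 2^6 * 5 * 7 * 13` with a strongly embedded subgroup `H`.  Then `|K : H| = 65`, a
Sylow `2`-subgroup `P` of `K` in `H` is normal in `H` and regular on the other 64 cosets, `H = P : D` with `D` of
order `7` acting fixed point freely on `P`, and every automorphism of `K` fixing `P` and centralising `D` is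
conjugation by an element of `D`.  Hence `Out K` embeds in `Aut D` and is abelian.
-/

set_option autoImplicit false

namespace Cfsg.Agent.SectRankFour.AutSz8

open Cfsg
open Cfsg.Agent.TwoFusion
open scoped commutatorElement Pointwise

/-! ### Counting lemmas -/

/-- A finite group acting freely on a finite set has order dividing the size of the set. -/
theorem card_dvd_of_free {P X : Type*} [Group P] [Finite P] [Finite X] [MulAction P X]
    (h : ∀ (x : X) (p : P), p • x = x → p = 1) : Nat.card P ∣ Nat.card X := by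
  classical
  haveI : Fintype (Quotient (MulAction.orbitRel P X)) := Fintype.ofFinite _
  have e := Nat.card_congr (MulAction.selfEquivSigmaOrbitsQuotientStabilizer P X)
  rw [Nat.card_sigma] at e
  rw [e]
  refine Finset.dvd_sum fun ω _ => ?_
  have hs : MulAction.stabilizer P ω.out = ⊥ := by
    rw [Subgroup.eq_bot_iff_forall]
    intro p hp
    exact h _ p hp
  have h1 : Nat.card (P ⧸ MulAction.stabilizer P ω.out) = Nat.card P := by
    rw [hs]
    exact Nat.card_congr (QuotientGroup.quotientBot (G := P)).toEquiv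
  rw [h1]

/-- `D` acting by automorphisms on `K`, freely on the nonidentity elements of an invariant subgroup `C`. -/
theorem card_dvd_sub_one {K D : Type*} [Group K] [Finite K] [Group D] [Finite D] (φ : D →* MulAut K)
    (C : Subgroup K) (hst : ∀ d : D, ∀ c ∈ C, φ d c ∈ C)
    (hfree : ∀ d : D, ∀ c ∈ C, c ≠ 1 → φ d c = c → d = 1) : Nat.card D ∣ Nat.card C - 1 := by
  classical
  let X := {c : C // c ≠ 1}
  letI : MulAction D X :=
    { smul := fun d x => ⟨⟨φ d x.1.1, hst d _ x.1.2⟩, by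
        intro h
        apply x.2
        have h1 : φ d x.1.1 = 1 := congrArg Subtype.val h
        have h2 : x.1.1 = 1 := by
          apply (φ d).injective
          rw [h1, map_one]
        exact Subtype.ext h2⟩
      one_smul := fun x => by
        apply Subtype.ext
        apply Subtype.ext
        show φ 1 x.1.1 = x.1.1
        rw [map_one]; rfl
      mul_smul := fun d e x => by
        apply Subtype.ext
        apply Subtype.ext
        show φ (d * e) x.1.1 = φ d (φ e x.1.1)
        rw [map_mul]; rfl }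
  have h1 : Nat.card D ∣ Nat.card X := by
    refine card_dvd_of_free fun x d hd => ?_
    refine hfree d x.1.1 x.1.2 (fun h => x.2 (Subtype.ext h)) ?_
    exact congrArg (fun y : X => y.1.1) hd
  have h2 : Nat.card X = Nat.card C - 1 := by
    have h3 : Nat.card X = ({(1 : C)}ᶜ : Set C).ncard := rfl
    rw [h3, Set.ncard_compl, Set.ncard_singleton]
  rwa [h2] at h1

section Abstract

variable {K Ω : Type*} [Group K] [Finite K] [Finite Ω] [MulAction K Ω]

/-- The fixed points of an automorphism. -/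
def fixG (α : MulAut K) : Subgroup K where
  carrier := {k | α k = k}
  one_mem' := map_one α
  mul_mem' := fun {a b} ha hb => by
    show α (a * b) = a * b
    rw [map_mul, show α a = a from ha, show α b = b from hb]
  inv_mem' := fun {a} ha => by
    show α a⁻¹ = a⁻¹
    rw [map_inv, show α a = a from ha]

@[simp] theorem mem_fixG {α : MulAut K} {k : K} : k ∈ fixG α ↔ α k = k := Iff.rfl

/-- the number of fixed points of a permutation compatible with `α` -/
theorem fix_count (α : MulAut K) (a : Ω → Ω) (ha : ∀ (k : K) (x : Ω), a (k • x) = α k • a x)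
    {x₀ x₁ : Ω} (hx : x₁ ≠ x₀) (h0 : a x₀ = x₀) (h1 : a x₁ = x₁) (P : Subgroup K)
    (hP0 : ∀ p ∈ P, p • x₀ = x₀) (hreg : ∀ x, x ≠ x₀ → ∃ p ∈ P, p • x₁ = x)
    (hfree : ∀ p ∈ P, p • x₁ = x₁ → p = 1) (hαP : ∀ p ∈ P, α p ∈ P) :
    {x | a x = x}.ncard = 1 + Nat.card ↥(P ⊓ fixG α) := by
  classical
  have hset : {x | a x = x} = insert x₀ ((fun p : K => p • x₁) '' (P ⊓ fixG α : Subgroup K)) := by
    ext x
    simp only [Set.mem_ofPred_eq, Set.mem_insert_iff, Set.mem_image, SetLike.mem_coe]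
    constructor
    · intro hax
      by_cases hxx : x = x₀
      · exact Or.inl hxx
      · obtain ⟨p, hp, rfl⟩ := hreg x hxx
        refine Or.inr ⟨p, ⟨hp, ?_⟩, rfl⟩
        have h2 : α p • x₁ = p • x₁ := by
          rw [ha, h1] at hax; exact hax
        have h3 : (p⁻¹ * α p) • x₁ = x₁ := by
          rw [mul_smul, h2, inv_smul_smul]
        have h4 := hfree _ (P.mul_mem (P.inv_mem hp) (hαP p hp)) h3
        exact (inv_mul_eq_one.mp h4).symm
    · rintro (rfl | ⟨p, ⟨-, hp⟩, rfl⟩)
      · exact h0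
      · show a (p • x₁) = p • x₁
        rw [ha, h1, show α p = p from hp]
  have hnot : x₀ ∉ ((fun p : K => p • x₁) '' (P ⊓ fixG α : Subgroup K)) := by
    rintro ⟨p, ⟨hp, -⟩, hpx⟩
    have hpx' : p • x₁ = x₀ := hpx
    apply hx
    have := hP0 p⁻¹ (P.inv_mem hp)
    rw [← hpx', inv_smul_smul] at this
    rw [← hpx', ← this]
  rw [hset, Set.ncard_insert_of_notMem hnot (Set.toFinite _), Set.InjOn.ncard_image, add_comm]
  · rfl
  · intro p hp q hq hpq
    have hpq' : p • x₁ = q • x₁ := hpq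
    have h3 : (q⁻¹ * p) • x₁ = x₁ := by rw [mul_smul, hpq', inv_smul_smul]
    have h4 := hfree _ (P.mul_mem (P.inv_mem hq.1) hp.1) h3
    exact (inv_mul_eq_one.mp h4).symm

/-- with a second point of the same kind, the fixed points form an orbit of the centraliser of `α` -/
theorem fix_dvd (α : MulAut K) (a : Ω → Ω) (ha : ∀ (k : K) (x : Ω), a (k • x) = α k • a x)
    {x₀ x₁ : Ω} (hx : x₁ ≠ x₀) (h0 : a x₀ = x₀) (h1 : a x₁ = x₁) (P P₁ : Subgroup K)
    (hP0 : ∀ p ∈ P, p • x₀ = x₀) (hreg : ∀ x, x ≠ x₀ → ∃ p ∈ P, p • x₁ = x)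
    (hfree : ∀ p ∈ P, p • x₁ = x₁ → p = 1) (hαP : ∀ p ∈ P, α p ∈ P)
    (hreg' : ∀ x, x ≠ x₁ → ∃ p ∈ P₁, p • x₀ = x)
    (hfree' : ∀ p ∈ P₁, p • x₀ = x₀ → p = 1) (hαP' : ∀ p ∈ P₁, α p ∈ P₁)
    (hne : P ⊓ fixG α ≠ ⊥) : {x | a x = x}.ncard ∣ Nat.card K := by
  classical
  obtain ⟨c, hcP, hcα, hc1⟩ : ∃ c : K, c ∈ P ∧ c ∈ fixG α ∧ c ≠ 1 := by
    obtain ⟨c, hc⟩ := Subgroup.ne_bot_iff_exists_ne_one.mp hne
    exact ⟨c, c.2.1, c.2.2, fun h => hc (Subtype.ext h)⟩
  have hfx : ∀ p ∈ P, a (p • x₁) = p • x₁ → p ∈ fixG α := by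
    intro p hp hax
    have h2 : α p • x₁ = p • x₁ := by rw [ha, h1] at hax; exact hax
    have h3 : (p⁻¹ * α p) • x₁ = x₁ := by rw [mul_smul, h2, inv_smul_smul]
    exact (inv_mul_eq_one.mp (hfree _ (P.mul_mem (P.inv_mem hp) (hαP p hp)) h3)).symm
  have hfx' : ∀ p ∈ P₁, a (p • x₀) = p • x₀ → p ∈ fixG α := by
    intro p hp hax
    have h2 : α p • x₀ = p • x₀ := by rw [ha, h0] at hax; exact hax
    have h3 : (p⁻¹ * α p) • x₀ = x₀ := by rw [mul_smul, h2, inv_smul_smul]
    exact (inv_mul_eq_one.mp (hfree' _ (P₁.mul_mem (P₁.inv_mem hp) (hαP' p hp)) h3)).symm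
  have hc2 : c • x₁ ≠ x₁ := fun h => hc1 (hfree c hcP h)
  obtain ⟨q, hq, hqx⟩ := hreg' (c • x₁) hc2
  have hac : a (c • x₁) = c • x₁ := by rw [ha, h1, show α c = c from hcα]
  have hqα : q ∈ fixG α := hfx' q hq (by rw [hqx]; exact hac)
  have hx1 : x₁ = (c⁻¹ * q) • x₀ := by rw [mul_smul, hqx, inv_smul_smul]
  have hset : {x | a x = x} = MulAction.orbit (fixG α) x₀ := by
    ext x
    simp only [Set.mem_ofPred_eq]
    constructor
    · intro hax
      by_cases hxx : x = x₀
      · rw [hxx]; exact MulAction.mem_orbit_self _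
      · obtain ⟨p, hp, rfl⟩ := hreg x hxx
        have hpα := hfx p hp hax
        refine ⟨⟨p * (c⁻¹ * q), (fixG α).mul_mem hpα ((fixG α).mul_mem ((fixG α).inv_mem hcα) hqα)⟩, ?_⟩
        show (p * (c⁻¹ * q)) • x₀ = p • x₁
        rw [mul_smul, ← hx1]
    · rintro ⟨k, rfl⟩
      show a ((k : K) • x₀) = (k : K) • x₀
      rw [ha, h0, show α (k : K) = k from k.2]
  rw [hset, ← MulAction.index_stabilizer]
  exact (Subgroup.index_dvd_card _).trans (Subgroup.card_subgroup_dvd_card _)

end Abstract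

/-! ### Strongly embedded subgroups: the Sylow 2-subgroup acts freely -/

section SE

open StronglyEmbeddedBasic

variable {K : Type*} [Group K] [Finite K] {H : Subgroup K}

/-- a nontrivial 2-group has a central involution -/
theorem exists_central_involution {G : Type*} [Group G] [Finite G] (h2 : IsPGroup 2 G)
    (hne : Nontrivial G) : ∃ z : G, orderOf z = 2 ∧ ∀ g : G, g * z = z * g := by
  haveI := hne
  haveI := h2.center_nontrivial
  have hd : 2 ∣ Nat.card (Subgroup.center G) := by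
    have h3 : IsPGroup 2 (Subgroup.center G) := h2.to_subgroup _
    obtain ⟨n, hn⟩ := IsPGroup.iff_card.mp h3
    have hn0 : n ≠ 0 := by
      rintro rfl
      rw [pow_zero] at hn
      exact absurd hn (Finite.one_lt_card).ne'
    rw [hn]
    exact dvd_pow_self 2 hn0
  obtain ⟨z, hz⟩ := exists_prime_orderOf_dvd_card' 2 hd
  refine ⟨z, by rwa [Subgroup.orderOf_coe], fun g => Subgroup.mem_center_iff.mp z.2 g⟩

theorem exists_sylow_le (hse : IsStronglyEmbedded H) : ∃ P : Sylow 2 K, (P : Subgroup K) ≤ H := by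
  obtain ⟨t, ht, ht2⟩ := exists_involution hse
  have hz : IsPGroup 2 (Subgroup.zpowers t) := by
    apply IsPGroup.of_card (n := 1)
    rw [Nat.card_zpowers, ht2, pow_one]
  obtain ⟨P, hP⟩ := hz.exists_le_sylow
  have htP : t ∈ (P : Subgroup K) := hP (Subgroup.mem_zpowers t)
  have hne : Nontrivial (P : Subgroup K) := by
    refine ⟨⟨⟨t, htP⟩, 1, fun h => ?_⟩⟩
    have : t = 1 := congrArg Subtype.val h
    rw [this, orderOf_one] at ht2
    exact absurd ht2 (by norm_num)
  obtain ⟨z, hz2, hzc⟩ := exists_central_involution P.2 hne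
  have hz2' : orderOf (z : K) = 2 := by rwa [Subgroup.orderOf_coe]
  have hzH : (z : K) ∈ H := mem_of_commute hse ht ht2 (by
    have := hzc ⟨t, htP⟩
    exact (congrArg Subtype.val this).symm)
  refine ⟨P, fun p hp => mem_of_commute hse hzH hz2' ?_⟩
  have := hzc ⟨p, hp⟩
  exact congrArg Subtype.val this

/-- nonidentity elements of 2-subgroups of `H` move every other coset -/
theorem not_mem_conj (hse : IsStronglyEmbedded H) {P : Subgroup K} (hP : IsPGroup 2 P) (hPH : P ≤ H)
    {p : K} (hp : p ∈ P) (hp1 : p ≠ 1) {g : K} (hg : g ∉ H) : g⁻¹ * p * g ∉ H := by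
  intro hmem
  obtain ⟨n, hn⟩ := (IsPGroup.iff_orderOf.mp hP) ⟨p, hp⟩
  rw [Subgroup.orderOf_mk] at hn
  have hn0 : n ≠ 0 := by
    rintro rfl
    rw [pow_zero, orderOf_eq_one_iff] at hn
    exact hp1 hn
  obtain ⟨m, rfl⟩ := Nat.exists_eq_succ_of_ne_zero hn0
  have hq2 : orderOf (p ^ 2 ^ m) = 2 := by
    rw [orderOf_pow_of_dvd (by positivity) (by rw [hn]; exact pow_dvd_pow 2 (Nat.le_succ m)), hn,
      Nat.succ_eq_add_one, pow_succ, Nat.mul_div_cancel_left _ (by positivity)]
  have h1 : g⁻¹ * (p ^ 2 ^ m) * g⁻¹⁻¹ ∈ H := by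
    rw [inv_inv]
    have h3 : g⁻¹ * (p ^ 2 ^ m) * g = (g⁻¹ * p * g) ^ 2 ^ m := by
      have := conj_pow (i := 2 ^ m) (a := g⁻¹) (b := p)
      rw [inv_inv] at this
      exact this.symm
    rw [h3]
    exact H.pow_mem hmem _
  have h4 := mem_of_conj_mem hse (H.pow_mem (hPH hp) _) hq2 h1
  exact hg (by simpa using H.inv_mem h4)

theorem smul_coe_eq_iff (p g : K) : p • ((g : K) : K ⧸ H) = ((g : K) : K ⧸ H) ↔ g⁻¹ * p * g ∈ H := by
  rw [eq_comm]
  show ((g : K) : K ⧸ H) = ((p * g : K) : K ⧸ H) ↔ _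
  rw [QuotientGroup.eq, mul_assoc]

theorem coe_eq_one_iff (g : K) : ((g : K) : K ⧸ H) = ((1 : K) : K ⧸ H) ↔ g ∈ H := by
  rw [eq_comm, QuotientGroup.eq]; simp

theorem smul_one_of_mem {p : K} (hp : p ∈ H) : p • ((1 : K) : K ⧸ H) = ((1 : K) : K ⧸ H) := by
  rw [smul_coe_eq_iff]; simpa using hp

theorem free_action (hse : IsStronglyEmbedded H) {P : Subgroup K} (hP : IsPGroup 2 P) (hPH : P ≤ H)
    {x : K ⧸ H} (hx : x ≠ ((1 : K) : K ⧸ H)) {p : K} (hp : p ∈ P) (hpx : p • x = x) : p = 1 := by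
  induction x using QuotientGroup.induction_on with | H g => ?_
  by_contra hp1
  exact not_mem_conj hse hP hPH hp hp1 (fun h => hx ((coe_eq_one_iff g).mpr h))
    ((smul_coe_eq_iff p g).mp hpx)

/-- the order of a 2-subgroup of `H` divides `|K : H| - 1` -/
theorem card_dvd_index_sub_one (hse : IsStronglyEmbedded H) {P : Subgroup K} (hP : IsPGroup 2 P)
    (hPH : P ≤ H) : Nat.card P ∣ H.index - 1 := by
  classical
  let X := {x : K ⧸ H // x ≠ ((1 : K) : K ⧸ H)}
  have hst : ∀ p : P, ∀ x : K ⧸ H, x ≠ ((1 : K) : K ⧸ H) → (p : K) • x ≠ ((1 : K) : K ⧸ H) := by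
    intro p x hx h
    apply hx
    have := smul_one_of_mem (H := H) (H.inv_mem (hPH p.2))
    rw [← h, inv_smul_smul] at this
    rw [this, h]
  letI : MulAction P X :=
    { smul := fun p x => ⟨(p : K) • x.1, hst p x.1 x.2⟩
      one_smul := fun x => Subtype.ext (one_smul K x.1)
      mul_smul := fun p q x => Subtype.ext (mul_smul (p : K) (q : K) x.1) }
  have h1 : Nat.card P ∣ Nat.card X := by
    refine card_dvd_of_free fun x p hpx => ?_
    exact Subtype.ext (free_action hse hP hPH x.2 p.2 (congrArg Subtype.val hpx))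
  have h3 : Nat.card X = ({((1 : K) : K ⧸ H)}ᶜ : Set (K ⧸ H)).ncard := rfl
  rw [h3, Set.ncard_compl, Set.ncard_singleton] at h1
  exact h1

/-- a 2-subgroup of `H` of order `|K : H| - 1` is regular on the other cosets -/
theorem regular (hse : IsStronglyEmbedded H) {P : Subgroup K} (hP : IsPGroup 2 P)
    (hPH : P ≤ H) (hc : Nat.card P = H.index - 1) {x y : K ⧸ H} (hx : x ≠ ((1 : K) : K ⧸ H))
    (hy : y ≠ ((1 : K) : K ⧸ H)) : ∃ p ∈ P, p • x = y := by
  classical
  let X := {x : K ⧸ H // x ≠ ((1 : K) : K ⧸ H)}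
  have hst : ∀ p : P, ∀ x : K ⧸ H, x ≠ ((1 : K) : K ⧸ H) → (p : K) • x ≠ ((1 : K) : K ⧸ H) := by
    intro p x hx h
    apply hx
    have := smul_one_of_mem (H := H) (H.inv_mem (hPH p.2))
    rw [← h, inv_smul_smul] at this
    rw [this, h]
  let f : P → X := fun p => ⟨(p : K) • x, hst p x hx⟩
  have hf : Function.Injective f := by
    intro p q hpq
    have h1 : (p : K) • x = (q : K) • x := congrArg Subtype.val hpq
    have h2 : ((q : K)⁻¹ * p) • x = x := by rw [mul_smul, h1, inv_smul_smul]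
    have h3 := free_action hse hP hPH hx (P.mul_mem (P.inv_mem q.2) p.2) h2
    exact Subtype.ext (inv_mul_eq_one.mp h3).symm
  have h3 : Nat.card X = ({((1 : K) : K ⧸ H)}ᶜ : Set (K ⧸ H)).ncard := rfl
  rw [Set.ncard_compl, Set.ncard_singleton] at h3
  have hb := hf.bijective_of_nat_card_le (by rw [h3, hc]; rfl)
  obtain ⟨p, hp⟩ := hb.2 ⟨y, hy⟩
  exact ⟨p, p.2, congrArg Subtype.val hp⟩

end SE

/-! ### Local structure in the case of order 29120 -/

section Local

open StronglyEmbeddedBasic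

variable {K : Type*} [Group K] [Finite K] {H : Subgroup K}

theorem not_nine_dvd : ¬ 9 ∣ 29120 := by norm_num

theorem card_sylow (hcard : Nat.card K = 29120) (P : Sylow 2 K) : Nat.card P = 64 := by
  have h1 := P.card_eq_multiplicity
  rw [hcard] at h1
  have h2 : (29120 : ℕ).factorization 2 = 6 := by
    have h3 : (29120 : ℕ) = 2 ^ 6 * 455 := by norm_num
    rw [h3, Nat.factorization_mul (by norm_num) (by norm_num), Nat.Prime.factorization_pow Nat.prime_two,
      Finsupp.add_apply, Finsupp.single_apply, if_pos rfl,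
      Nat.factorization_eq_zero_of_not_dvd (by norm_num)]
  rw [h1, h2]; norm_num

theorem index_eq (hse : IsStronglyEmbedded H) (hcard : Nat.card K = 29120) : H.index = 65 := by
  obtain ⟨P, hP⟩ := exists_sylow_le hse
  have hd := card_dvd_index_sub_one hse P.2 hP
  have hc : Nat.card (P : Subgroup K) = 64 := card_sylow hcard P
  rw [hc] at hd
  have h1 : 64 ∣ Nat.card H := by
    rw [← hc]; exact Subgroup.card_dvd_of_le hP
  have h2 := H.card_mul_index
  rw [hcard] at h2
  obtain ⟨m, hm⟩ := h1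
  rw [hm] at h2
  have h3 : m * H.index = 455 := by nlinarith
  have h4 : H.index ≠ 1 := fun h => hse.1 (Subgroup.index_eq_one.mp h)
  have h5 : H.index ∣ 455 := ⟨m, by rw [mul_comm]; exact h3.symm⟩
  have h6 : H.index ≠ 0 := by
    intro h; rw [h] at h3; simp at h3
  obtain ⟨k, hk⟩ := hd
  have h7 : H.index = 64 * k + 1 := by omega
  have h8 : H.index ≤ 455 := Nat.le_of_dvd (by norm_num) h5
  have h9 : k ≤ 7 := by omega
  have h10 : 1 ≤ k := by
    rcases Nat.eq_zero_or_pos k with h11 | h11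
    · subst h11; omega
    · exact h11
  rw [h7] at h5 ⊢
  clear h3 h2 h7 h8 h6 h4 hk
  interval_cases k <;> first | rfl | (exfalso; revert h5; norm_num; done)

theorem card_H (hse : IsStronglyEmbedded H) (hcard : Nat.card K = 29120) : Nat.card H = 448 := by
  have h2 := H.card_mul_index
  rw [hcard, index_eq hse hcard] at h2
  omega

/-- `H` is transitive on the other cosets and the stabilisers have order `7` -/
theorem card_stab (hse : IsStronglyEmbedded H) (hcard : Nat.card K = 29120) {x : K ⧸ H}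
    (hx : x ≠ ((1 : K) : K ⧸ H)) : Nat.card (MulAction.stabilizer H x) = 7 := by
  classical
  obtain ⟨P, hP⟩ := exists_sylow_le hse
  have hi := index_eq hse hcard
  have horb : MulAction.orbit H x = ({((1 : K) : K ⧸ H)}ᶜ : Set (K ⧸ H)) := by
    ext y
    simp only [Set.mem_compl_iff, Set.mem_singleton_iff]
    constructor
    · rintro ⟨h, rfl⟩ hy
      have hy' : (h : K) • x = ((1 : K) : K ⧸ H) := hy
      apply hx
      have := smul_one_of_mem (H := H) (H.inv_mem h.2)
      rw [← hy', inv_smul_smul] at this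
      rw [this, hy']
    · intro hy
      obtain ⟨p, hp, hpx⟩ := regular hse P.2 hP (by rw [hi]; exact card_sylow hcard P) hx hy
      exact ⟨⟨p, hP hp⟩, hpx⟩
  have h1 := MulAction.index_stabilizer H x
  have h3 : ({((1 : K) : K ⧸ H)}ᶜ : Set (K ⧸ H)).ncard = 64 := by
    rw [Set.ncard_compl, Set.ncard_singleton]
    show H.index - 1 = 64
    rw [hi]
  rw [horb, h3] at h1
  have h2 := (MulAction.stabilizer H x).card_mul_index
  rw [h1, card_H hse hcard] at h2
  omega

/-- conjugacy of subgroups of order `7` -/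
theorem exists_conj_seven {L : Type*} [Group L] [Finite L] (D E : Subgroup L) (hD : Nat.card D = 7)
    (hE : Nat.card E = 7) (hL : Nat.card L = 448) : ∃ g : L, ∀ x, x ∈ D ↔ g * x * g⁻¹ ∈ E := by
  haveI : Fact (Nat.Prime 7) := ⟨by norm_num⟩
  have h7 : (Nat.card L).factorization 7 = 1 := by
    have h3 : (448 : ℕ) = 7 ^ 1 * 64 := by norm_num
    rw [hL, h3, Nat.factorization_mul (by norm_num) (by norm_num),
      Nat.Prime.factorization_pow (by norm_num),
      Finsupp.add_apply, Finsupp.single_apply, if_pos rfl,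
      Nat.factorization_eq_zero_of_not_dvd (by norm_num)]
  obtain ⟨g, hg⟩ := MulAction.exists_smul_eq L (Sylow.ofCard D (by rw [h7, hD, pow_one]))
    (Sylow.ofCard E (by rw [h7, hE, pow_one]))
  refine ⟨g, fun x => ?_⟩
  have h1 : (g • (Sylow.ofCard D (by rw [h7, hD, pow_one]) : Sylow 7 L) : Sylow 7 L) = Sylow.ofCard E (by rw [h7, hE, pow_one]) := hg
  have h2 : MulAut.conj g • D = E := congrArg (fun S : Sylow 7 L => (S : Subgroup L)) h1
  rw [← h2]
  constructor
  · intro hx
    exact Subgroup.smul_mem_pointwise_smul _ (MulAut.conj g) _ hx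
  · intro hx
    have h3 : MulAut.conj g • x ∈ MulAut.conj g • D := hx
    exact Subgroup.smul_mem_pointwise_smul_iff.mp h3

/-- the data of the local structure -/
structure Data (H : Subgroup K) (D : Subgroup K) (x₁ : K ⧸ H) : Prop where
  ne : x₁ ≠ ((1 : K) : K ⧸ H)
  mem : ∀ y : K, y ∈ D ↔ y ∈ H ∧ y • x₁ = x₁

theorem exists_data (hse : IsStronglyEmbedded H) (_hcard : Nat.card K = 29120) :
    ∃ (D : Subgroup K) (x₁ : K ⧸ H), Data H D x₁ := by
  obtain ⟨g, hg⟩ : ∃ g, g ∉ H := by
    by_contra h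
    push Not at h
    exact hse.1 ((Subgroup.eq_top_iff' H).mpr h)
  refine ⟨H ⊓ MulAction.stabilizer K ((g : K) : K ⧸ H), (g : K), fun h => hg ((coe_eq_one_iff g).mp h), fun y => Iff.rfl⟩

theorem Data.le {D : Subgroup K} {x₁ : K ⧸ H} (h : Data H D x₁) : D ≤ H := fun y hy => ((h.mem y).mp hy).1

theorem Data.card_eq (hse : IsStronglyEmbedded H) (hcard : Nat.card K = 29120) {D : Subgroup K}
    {x₁ : K ⧸ H} (h : Data H D x₁) : Nat.card D = 7 := by
  rw [← card_stab hse hcard h.ne]
  refine Nat.card_congr ⟨fun y => ⟨⟨y.1, h.le y.2⟩, ((h.mem y.1).mp y.2).2⟩,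
    fun y => ⟨y.1.1, (h.mem _).mpr ⟨y.1.2, y.2⟩⟩, fun y => rfl, fun y => rfl⟩

/-- if `D` fixes `x` and `x` is not the base point then `D` is the stabiliser of `x` in `H` -/
theorem Data.mem_of_fixed (hse : IsStronglyEmbedded H) (hcard : Nat.card K = 29120) {D : Subgroup K}
    {x₁ : K ⧸ H} (h : Data H D x₁) {x : K ⧸ H} (hx : x ≠ ((1 : K) : K ⧸ H))
    (hfix : ∀ d ∈ D, d • x = x) {y : K} (hy : y ∈ H) (hyx : y • x = x) : y ∈ D := by
  have h1 : D.subgroupOf H ≤ MulAction.stabilizer H x := by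
    intro d hd
    exact hfix d hd
  have h2 : Nat.card (D.subgroupOf H) = 7 := by
    rw [← h.card_eq hse hcard]
    exact Nat.card_congr (Subgroup.subgroupOfEquivOfLe h.le).toEquiv
  have h3 : D.subgroupOf H = MulAction.stabilizer H x :=
    Subgroup.eq_of_le_of_card_ge h1 (by rw [h2, card_stab hse hcard hx])
  have h4 : (⟨y, hy⟩ : H) ∈ D.subgroupOf H := by
    rw [h3]; exact hyx
  exact h4

/-- the fixed points of `D` are an orbit of the normaliser of `D` -/
theorem Data.fix_dvd (hse : IsStronglyEmbedded H) (hcard : Nat.card K = 29120) {D : Subgroup K}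
    {x₁ : K ⧸ H} (h : Data H D x₁) : {x : K ⧸ H | ∀ d ∈ D, d • x = x}.ncard ∣ 29120 := by
  classical
  have hset : {x : K ⧸ H | ∀ d ∈ D, d • x = x} =
      MulAction.orbit (Subgroup.normalizer (D : Set K)) ((1 : K) : K ⧸ H) := by
    ext x
    simp only [Set.mem_ofPred_eq]
    constructor
    · intro hx
      induction x using QuotientGroup.induction_on with | H k => ?_
      have hk : ∀ d ∈ D, k⁻¹ * d * k ∈ H := fun d hd => (smul_coe_eq_iff d k).mp (hx d hd)
      set E : Subgroup H := (D.map (MulAut.conj k⁻¹).toMonoidHom).subgroupOf H with hE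
      have hEmem : ∀ y : H, y ∈ E ↔ k * y * k⁻¹ ∈ D := by
        intro y
        rw [hE, Subgroup.mem_subgroupOf]
        constructor
        · rintro ⟨d, hd, hdy⟩
          have hdy' : k⁻¹ * d * k⁻¹⁻¹ = (y : K) := hdy
          rw [← hdy', inv_inv]
          have : k * (k⁻¹ * d * k) * k⁻¹ = d := by group
          rw [this]; exact hd
        · intro hy
          refine ⟨_, hy, ?_⟩
          show k⁻¹ * (k * y * k⁻¹) * k⁻¹⁻¹ = y
          group
      have hle : D.map (MulAut.conj k⁻¹).toMonoidHom ≤ H := by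
        rintro _ ⟨d, hd, rfl⟩
        show k⁻¹ * d * k⁻¹⁻¹ ∈ H
        rw [inv_inv]; exact hk d hd
      have hEc : Nat.card E = 7 := by
        rw [hE, Nat.card_congr (Subgroup.subgroupOfEquivOfLe hle).toEquiv,
          Subgroup.card_map_of_injective (MulAut.conj k⁻¹).injective]
        exact h.card_eq hse hcard
      have hDc : Nat.card (D.subgroupOf H) = 7 := by
        rw [Nat.card_congr (Subgroup.subgroupOfEquivOfLe h.le).toEquiv]
        exact h.card_eq hse hcard
      obtain ⟨g, hg⟩ := exists_conj_seven (D.subgroupOf H) E hDc hEc (card_H hse hcard)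
      have hn : k * (g : K) ∈ Subgroup.normalizer (D : Set K) := by
        rw [Subgroup.mem_normalizer_iff]
        intro y
        constructor
        · intro hy
          have h1 := (hEmem _).mp ((hg ⟨y, h.le hy⟩).mp hy)
          have h2 : k * (g : K) * y * (k * (g : K))⁻¹ = k * ((g * ⟨y, h.le hy⟩ * g⁻¹ : H) : K) * k⁻¹ := by
            simp only [Subgroup.coe_mul, Subgroup.coe_inv]
            group
          rw [h2]; exact h1
        · intro hy
          have h3 := hk _ hy
          have h4 : k⁻¹ * (k * (g : K) * y * (k * (g : K))⁻¹) * k = (g : K) * y * (g : K)⁻¹ := by group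
          rw [h4] at h3
          have h5 : y ∈ H := by
            have := H.mul_mem (H.mul_mem (H.inv_mem g.2) h3) g.2
            have h6 : (g : K)⁻¹ * ((g : K) * y * (g : K)⁻¹) * (g : K) = y := by group
            rwa [h6] at this
          have h7 : ((⟨y, h5⟩ : H)) ∈ D.subgroupOf H := by
            rw [hg ⟨y, h5⟩, hEmem]
            simp only [Subgroup.coe_mul, Subgroup.coe_inv]
            have h8 : k * ((g : K) * y * (g : K)⁻¹) * k⁻¹ = k * (g : K) * y * (k * (g : K))⁻¹ := by group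
            rw [h8]; exact hy
          exact h7
      refine ⟨⟨k * g, hn⟩, ?_⟩
      show (k * (g : K)) • ((1 : K) : K ⧸ H) = (k : K ⧸ H)
      rw [mul_smul, smul_one_of_mem g.2]
      show ((k * 1 : K) : K ⧸ H) = (k : K ⧸ H)
      rw [mul_one]
    · rintro ⟨n, rfl⟩ d hd
      show d • ((n : K) • ((1 : K) : K ⧸ H)) = (n : K) • ((1 : K) : K ⧸ H)
      have h1 : (n : K)⁻¹ * d * (n : K)⁻¹⁻¹ ∈ D :=
        (Subgroup.mem_normalizer_iff.mp ((Subgroup.normalizer (D : Set K)).inv_mem n.2) d).mp hd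
      rw [inv_inv] at h1
      have h2 : d • ((n : K) • ((1 : K) : K ⧸ H)) = (n : K) • (((n : K)⁻¹ * d * (n : K)) • ((1 : K) : K ⧸ H)) := by
        rw [← mul_smul, ← mul_smul]; congr 1; group
      rw [h2, smul_one_of_mem (h.le h1)]
  rw [hset, ← MulAction.index_stabilizer, ← hcard]
  exact (Subgroup.index_dvd_card _).trans (Subgroup.card_subgroup_dvd_card _)

/-- `H` is transitive on the other points -/
theorem exists_mem_smul (hse : IsStronglyEmbedded H) (hcard : Nat.card K = 29120) {x y : K ⧸ H}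
    (hx : x ≠ ((1 : K) : K ⧸ H)) (hy : y ≠ ((1 : K) : K ⧸ H)) : ∃ h ∈ H, h • x = y := by
  obtain ⟨P, hP⟩ := exists_sylow_le hse
  obtain ⟨p, hp, hpx⟩ := regular hse P.2 hP (by rw [index_eq hse hcard]; exact card_sylow hcard P) hx hy
  exact ⟨p, hP hp, hpx⟩

/-- the fixed points of `D` other than the base point are an orbit of `N_H(D)` -/
theorem Data.fix_orbit (hse : IsStronglyEmbedded H) (hcard : Nat.card K = 29120) {D : Subgroup K}
    {x₁ : K ⧸ H} (h : Data H D x₁) :
    {x : K ⧸ H | (∀ d ∈ D, d • x = x) ∧ x ≠ ((1 : K) : K ⧸ H)} =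
      MulAction.orbit ↥(Subgroup.normalizer (D : Set K) ⊓ H) x₁ := by
  ext x
  simp only [Set.mem_ofPred_eq]
  constructor
  · rintro ⟨hx, hx0⟩
    obtain ⟨k, hk, rfl⟩ := exists_mem_smul hse hcard h.ne hx0
    refine ⟨⟨k, ?_, hk⟩, rfl⟩
    show k ∈ Subgroup.normalizer (D : Set K)
    rw [Subgroup.mem_normalizer_iff]
    intro y
    constructor
    · intro hy
      refine h.mem_of_fixed hse hcard hx0 hx (H.mul_mem (H.mul_mem hk (h.le hy)) (H.inv_mem hk)) ?_
      have h1 : (k * y * k⁻¹) • (k • x₁) = k • (y • x₁) := by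
        rw [← mul_smul, ← mul_smul]; congr 1; group
      rw [h1, ((h.mem y).mp hy).2]
    · intro hy
      have h1 := hx _ hy
      have h2 : (k * y * k⁻¹) • (k • x₁) = k • (y • x₁) := by
        rw [← mul_smul, ← mul_smul]; congr 1; group
      rw [h2] at h1
      have h3 : y ∈ H := by
        have := H.mul_mem (H.mul_mem (H.inv_mem hk) (h.le hy)) hk
        have h6 : k⁻¹ * (k * y * k⁻¹) * k = y := by group
        rwa [h6] at this
      exact (h.mem y).mpr ⟨h3, smul_left_cancel k h1⟩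
  · rintro ⟨n, rfl⟩
    have hn1 : (n : K) ∈ Subgroup.normalizer (D : Set K) := n.2.1
    constructor
    · intro d hd
      show d • ((n : K) • x₁) = (n : K) • x₁
      have h1 : (n : K)⁻¹ * d * (n : K)⁻¹⁻¹ ∈ D :=
        (Subgroup.mem_normalizer_iff.mp ((Subgroup.normalizer (D : Set K)).inv_mem hn1) d).mp hd
      rw [inv_inv] at h1
      have h2 : d • ((n : K) • x₁) = (n : K) • (((n : K)⁻¹ * d * (n : K)) • x₁) := by
        rw [← mul_smul, ← mul_smul]; congr 1; group
      rw [h2, ((h.mem _).mp h1).2]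
    · intro hy
      have hy' : (n : K) • x₁ = ((1 : K) : K ⧸ H) := hy
      apply h.ne
      have := smul_one_of_mem (H := H) (H.inv_mem n.2.2)
      rw [← hy', inv_smul_smul] at this
      rw [this, hy']

theorem normalCore_eq_bot [IsSimpleGroup K] (hse : IsStronglyEmbedded H) : H.normalCore = ⊥ := by
  rcases IsSimpleGroup.eq_bot_or_eq_top_of_normal H.normalCore H.normalCore_normal with h | h
  · exact h
  · exact absurd (top_le_iff.mp (h ▸ H.normalCore_le)) hse.1

/-- an element fixing all cosets is trivial -/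
theorem eq_one_of_fix_all [IsSimpleGroup K] (hse : IsStronglyEmbedded H) {k : K}
    (hk : ∀ x : K ⧸ H, k • x = x) : k = 1 := by
  have h1 : k ∈ H.normalCore := by
    rw [Subgroup.normalCore_eq_ker, MonoidHom.mem_ker]
    exact Equiv.ext hk
  rw [normalCore_eq_bot hse] at h1
  exact h1

theorem Data.fix_eq [IsSimpleGroup K] (hse : IsStronglyEmbedded H) (hcard : Nat.card K = 29120)
    {D : Subgroup K} {x₁ : K ⧸ H} (h : Data H D x₁) {x : K ⧸ H} (hx0 : x ≠ ((1 : K) : K ⧸ H))
    (hx : ∀ d ∈ D, d • x = x) : x = x₁ := by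
  classical
  set F : Set (K ⧸ H) := {x : K ⧸ H | ∀ d ∈ D, d • x = x} with hF
  set F' : Set (K ⧸ H) := {x : K ⧸ H | (∀ d ∈ D, d • x = x) ∧ x ≠ ((1 : K) : K ⧸ H)} with hF'
  have hFF : F = insert ((1 : K) : K ⧸ H) F' := by
    ext y
    simp only [hF, hF', Set.mem_ofPred_eq, Set.mem_insert_iff]
    constructor
    · intro hy
      by_cases h1 : y = ((1 : K) : K ⧸ H)
      · exact Or.inl h1
      · exact Or.inr ⟨hy, h1⟩
    · rintro (rfl | hy)
      · intro d hd; exact smul_one_of_mem (h.le hd)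
      · exact hy.1
  have hcF : F.ncard = F'.ncard + 1 := by
    rw [hFF, Set.ncard_insert_of_notMem (fun hh => hh.2 rfl) (Set.toFinite _)]
  have hdv1 : F.ncard ∣ 29120 := h.fix_dvd hse hcard
  have hdv2 : F'.ncard ∣ 448 := by
    rw [hF', h.fix_orbit hse hcard, ← MulAction.index_stabilizer, ← card_H hse hcard]
    exact (Subgroup.index_dvd_card _).trans (Subgroup.card_dvd_of_le inf_le_right)
  have hle : F'.ncard ≤ 64 := by
    have h1 : F' ⊆ ({((1 : K) : K ⧸ H)}ᶜ : Set (K ⧸ H)) := fun y hy => hy.2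
    have h2 := Set.ncard_le_ncard h1 (Set.toFinite _)
    rw [Set.ncard_compl, Set.ncard_singleton] at h2
    have h3 : Nat.card (K ⧸ H) = 65 := index_eq hse hcard
    omega
  have hmod : F.ncard ≡ 65 [MOD 7] := by
    haveI : Fact (Nat.Prime 7) := ⟨by norm_num⟩
    have hD : IsPGroup 7 D := IsPGroup.of_card (n := 1) (by rw [h.card_eq hse hcard, pow_one])
    have h1 := hD.card_modEq_card_fixedPoints (K ⧸ H)
    have h2 : Nat.card (K ⧸ H) = 65 := index_eq hse hcard
    rw [h2] at h1
    have h3 : (MulAction.fixedPoints D (K ⧸ H)) = F := by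
      ext y
      rw [MulAction.mem_fixedPoints]
      exact ⟨fun hy d hd => hy ⟨d, hd⟩, fun hy d => hy d.1 d.2⟩
    rw [h3] at h1
    exact h1.symm
  have hx1F : x₁ ∈ F' := ⟨fun d hd => ((h.mem d).mp hd).2, h.ne⟩
  have hpos : 0 < F'.ncard := (Set.ncard_pos (Set.toFinite _)).mpr ⟨x₁, hx1F⟩
  have hcases : F'.ncard = 1 ∨ F'.ncard = 64 := by
    have hmod' : (F'.ncard + 1) % 7 = 2 := by
      rw [← hcF]
      have := hmod
      unfold Nat.ModEq at this
      rw [this]
    rw [hcF] at hdv1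
    generalize F'.ncard = m at *
    have hm1 : m % 7 = 1 := by omega
    interval_cases m <;> first | omega | (exfalso; revert hdv2; norm_num; done) | (exfalso; revert hdv1; norm_num; done)
  rcases hcases with h1 | h1
  · obtain ⟨y, hy⟩ := Set.ncard_eq_one.mp h1
    have h2 : x ∈ F' := ⟨hx, hx0⟩
    rw [hy] at h2 hx1F
    rw [Set.mem_singleton_iff.mp h2, Set.mem_singleton_iff.mp hx1F]
  · exfalso
    have h2 : F = Set.univ := by
      refine Set.eq_of_subset_of_ncard_le (Set.subset_univ _) ?_ (Set.toFinite _)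
      rw [Set.ncard_univ, hcF, h1]
      have h3 : Nat.card (K ⧸ H) = 65 := index_eq hse hcard
      omega
    have h3 : D = ⊥ := by
      rw [Subgroup.eq_bot_iff_forall]
      intro d hd
      refine eq_one_of_fix_all hse fun y => ?_
      have : y ∈ F := by rw [h2]; trivial
      exact this d hd
    have h4 := h.card_eq hse hcard
    rw [h3, Subgroup.card_bot] at h4
    exact absurd h4 (by norm_num)

theorem Data.mem_of_normalizes [IsSimpleGroup K] (hse : IsStronglyEmbedded H)
    (hcard : Nat.card K = 29120) {D : Subgroup K} {x₁ : K ⧸ H} (h : Data H D x₁) {n : K}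
    (hn : n ∈ Subgroup.normalizer (D : Set K)) (hnH : n ∈ H) : n ∈ D := by
  have h1 : n • x₁ ∈ {x : K ⧸ H | (∀ d ∈ D, d • x = x) ∧ x ≠ ((1 : K) : K ⧸ H)} := by
    rw [h.fix_orbit hse hcard]
    exact ⟨⟨n, hn, hnH⟩, rfl⟩
  exact (h.mem n).mpr ⟨hnH, h.fix_eq hse hcard h1.2 h1.1⟩

theorem commute_of_card_seven {G : Type*} [Group G] [Finite G] {D : Subgroup G} (hD : Nat.card D = 7)
    {a b : G} (ha : a ∈ D) (hb : b ∈ D) : a * b = b * a := by
  haveI : Fact (Nat.Prime 7) := ⟨by norm_num⟩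
  haveI : IsCyclic D := isCyclic_of_prime_card hD
  letI : CommGroup D := IsCyclic.commGroup
  exact congrArg Subtype.val (mul_comm (⟨a, ha⟩ : D) ⟨b, hb⟩)

/-- `H` has a normal subgroup of order `64` -/
theorem exists_normal [IsSimpleGroup K] (hse : IsStronglyEmbedded H) (hcard : Nat.card K = 29120) :
    ∃ P : Subgroup K, P ≤ H ∧ Nat.card P = 64 ∧ ∀ h ∈ H, ∀ p ∈ P, h * p * h⁻¹ ∈ P := by
  classical
  obtain ⟨D, x₁, h⟩ := exists_data hse hcard
  haveI : Fact (Nat.Prime 7) := ⟨by norm_num⟩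
  have h7 : (Nat.card H).factorization 7 = 1 := by
    have h3 : (448 : ℕ) = 7 ^ 1 * 64 := by norm_num
    rw [card_H hse hcard, h3, Nat.factorization_mul (by norm_num) (by norm_num),
      Nat.Prime.factorization_pow (by norm_num),
      Finsupp.add_apply, Finsupp.single_apply, if_pos rfl,
      Nat.factorization_eq_zero_of_not_dvd (by norm_num)]
  have hDc : Nat.card (D.subgroupOf H) = 7 := by
    rw [Nat.card_congr (Subgroup.subgroupOfEquivOfLe h.le).toEquiv]
    exact h.card_eq hse hcard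
  set S : Sylow 7 H := Sylow.ofCard (D.subgroupOf H) (by rw [h7, hDc, pow_one]) with hS
  have hSD : (S : Subgroup H) = D.subgroupOf H := rfl
  have hnorm : Subgroup.normalizer ((S : Subgroup H) : Set H) ≤ Subgroup.centralizer ((S : Subgroup H) : Set H) := by
    intro n hn
    have hnD : (n : K) ∈ D := by
      refine h.mem_of_normalizes hse hcard ?_ n.2
      rw [Subgroup.mem_normalizer_iff]
      intro y
      have hn' := Subgroup.mem_normalizer_iff.mp hn
      constructor
      · intro hy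
        exact (hn' ⟨y, h.le hy⟩).mp hy
      · intro hy
        have hyH : y ∈ H := by
          have := H.mul_mem (H.mul_mem (H.inv_mem n.2) (h.le hy)) n.2
          have h6 : (n : K)⁻¹ * ((n : K) * y * (n : K)⁻¹) * (n : K) = y := by group
          rwa [h6] at this
        exact (hn' ⟨y, hyH⟩).mpr hy
    rw [Subgroup.mem_centralizer_iff]
    intro y hy
    exact Subtype.ext (commute_of_card_seven (h.card_eq hse hcard) (show (y : K) ∈ D from hy) hnD)
  have hcomp := MonoidHom.ker_transferSylow_isComplement' S hnorm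
  set T := (MonoidHom.transferSylow S hnorm).ker with hT
  have hTc : Nat.card T = 64 := by
    have h1 := hcomp.card_mul
    rw [hSD, hDc, card_H hse hcard] at h1
    omega
  refine ⟨T.map H.subtype, Subgroup.map_subtype_le T, ?_, ?_⟩
  · rw [Subgroup.card_map_of_injective H.subtype_injective, hTc]
  · rintro x hx _ ⟨p, hp, rfl⟩
    refine ⟨⟨x, hx⟩ * p * ⟨x, hx⟩⁻¹, ?_, rfl⟩
    haveI : T.Normal := by rw [hT]; infer_instance
    exact this.conj_mem p hp ⟨x, hx⟩

/-- All the local facts used below. -/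
structure Full (H P D : Subgroup K) (x₁ : K ⧸ H) : Prop extends Data H D x₁ where
  hse : IsStronglyEmbedded H
  hcard : Nat.card K = 29120
  hPH : P ≤ H
  hPc : Nat.card P = 64
  hPn : ∀ h ∈ H, ∀ p ∈ P, h * p * h⁻¹ ∈ P

theorem exists_full [IsSimpleGroup K] (hse : IsStronglyEmbedded H) (hcard : Nat.card K = 29120) :
    ∃ (P D : Subgroup K) (x₁ : K ⧸ H), Full H P D x₁ := by
  obtain ⟨D, x₁, h⟩ := exists_data hse hcard
  obtain ⟨P, h1, h2, h3⟩ := exists_normal hse hcard
  exact ⟨P, D, x₁, { h with hse := hse, hcard := hcard, hPH := h1, hPc := h2, hPn := h3 }⟩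

namespace Full

variable {P D : Subgroup K} {x₁ : K ⧸ H}

theorem isPGroup (h : Full H P D x₁) : IsPGroup 2 P :=
  IsPGroup.of_card (n := 6) (by rw [h.hPc]; norm_num)

theorem cardD (h : Full H P D x₁) : Nat.card D = 7 := h.toData.card_eq h.hse h.hcard

theorem regular (h : Full H P D x₁) {x y : K ⧸ H} (hx : x ≠ ((1 : K) : K ⧸ H))
    (hy : y ≠ ((1 : K) : K ⧸ H)) : ∃ p ∈ P, p • x = y :=
  AutSz8.regular h.hse h.isPGroup h.hPH (by rw [h.hPc, index_eq h.hse h.hcard]) hx hy

theorem free (h : Full H P D x₁) {x : K ⧸ H} (hx : x ≠ ((1 : K) : K ⧸ H)) {p : K} (hp : p ∈ P)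
    (hpx : p • x = x) : p = 1 :=
  free_action h.hse h.isPGroup h.hPH hx hp hpx

theorem exists_involution (h : Full H P D x₁) : ∃ t ∈ P, orderOf t = 2 := by
  have hd : 2 ∣ Nat.card P := by rw [h.hPc]; norm_num
  obtain ⟨t, ht⟩ := exists_prime_orderOf_dvd_card' 2 hd
  exact ⟨t, t.2, by rwa [Subgroup.orderOf_coe]⟩

theorem mem_H_of_normalizes (h : Full H P D x₁) {g : K} (hg : ∀ p ∈ P, g * p * g⁻¹ ∈ P) : g ∈ H := by
  obtain ⟨t, ht, ht2⟩ := h.exists_involution
  exact mem_of_conj_mem h.hse (h.hPH ht) ht2 (h.hPH (hg t ht))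

theorem not_both (h : Full H P D x₁) {y : K} (hyP : y ∈ P) (hyD : y ∈ D) : y = 1 := by
  by_contra hy1
  have h1 : orderOf y ∣ 64 := by
    have := P.orderOf_dvd_natCard hyP; rwa [h.hPc] at this
  have h2 : orderOf y ∣ 7 := by
    have := D.orderOf_dvd_natCard hyD; rwa [h.cardD] at this
  have h3 : orderOf y ∣ Nat.gcd 64 7 := Nat.dvd_gcd h1 h2
  have h4 : Nat.gcd 64 7 = 1 := by norm_num
  rw [h4, Nat.dvd_one, orderOf_eq_one_iff] at h3
  exact hy1 h3

/-- `D` acts fixed point freely on `P` -/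
theorem eq_one_of_commute [IsSimpleGroup K] (h : Full H P D x₁) {d c : K} (hd : d ∈ D) (hd1 : d ≠ 1)
    (hc : c ∈ P) (hdc : d * c * d⁻¹ = c) : c = 1 := by
  have hcyc : ∀ y ∈ D, y ∈ Subgroup.zpowers d := by
    have h1 : Subgroup.zpowers d ≤ D := by rwa [Subgroup.zpowers_le]
    have h2 : Nat.card (Subgroup.zpowers d) ∣ Nat.card D := Subgroup.card_dvd_of_le h1
    rw [h.cardD] at h2
    have h3 : Nat.card (Subgroup.zpowers d) ≠ 1 := by
      rw [Nat.card_zpowers]
      exact fun hh => hd1 (orderOf_eq_one_iff.mp hh)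
    have h4 : Nat.card (Subgroup.zpowers d) = 7 :=
      ((Nat.dvd_prime (by norm_num)).mp h2).resolve_left h3
    have h5 := Subgroup.eq_of_le_of_card_ge h1 (by rw [h4, h.cardD])
    intro y hy; rw [h5]; exact hy
  have hcomm : ∀ y ∈ D, c * y * c⁻¹ = y := by
    intro y hy
    obtain ⟨n, rfl⟩ := Subgroup.mem_zpowers_iff.mp (hcyc y hy)
    have h1 : Commute d c := by
      show d * c = c * d
      have := congrArg (· * d) hdc
      simpa using this
    have h2 : Commute c (d ^ n) := (h1.zpow_left n).symm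
    rw [h2.eq, mul_inv_cancel_right]
  have hn : c ∈ Subgroup.normalizer (D : Set K) := by
    rw [Subgroup.mem_normalizer_iff]
    intro y
    constructor
    · intro hy; rw [hcomm y hy]; exact hy
    · intro hy
      have h1 := hcomm _ hy
      have h2 : c * (c * y * c⁻¹) * c⁻¹ = c * y * c⁻¹ := h1
      have h3 : c * y * c⁻¹ = y := by
        have := congrArg (fun z => c⁻¹ * z * c) h2
        simpa [mul_assoc] using this
      rwa [h3] at hy
  exact h.not_both hc (h.toData.mem_of_normalizes h.hse h.hcard hn (h.hPH hc))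

theorem card_invariant [IsSimpleGroup K] (h : Full H P D x₁) {C : Subgroup K} (hC : C ≤ P)
    (hCD : ∀ d ∈ D, ∀ c ∈ C, d * c * d⁻¹ ∈ C) :
    Nat.card C = 1 ∨ Nat.card C = 8 ∨ Nat.card C = 64 := by
  have h1 : Nat.card C ∣ 64 := by rw [← h.hPc]; exact Subgroup.card_dvd_of_le hC
  have h2 : Nat.card D ∣ Nat.card C - 1 := by
    refine card_dvd_sub_one (MulAut.conj.comp D.subtype) C (fun d c hc => hCD d d.2 c hc) ?_
    intro d c hc hc1 hdc
    by_contra hd1
    exact hc1 (h.eq_one_of_commute d.2 (fun hh => hd1 (Subtype.ext hh)) (hC hc) hdc)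
  rw [h.cardD] at h2
  have h3 : Nat.card C ≤ 64 := Nat.le_of_dvd (by norm_num) h1
  have h4 : 0 < Nat.card C := Nat.card_pos
  generalize Nat.card C = m at *
  obtain ⟨k, hk⟩ := h2
  have h5 : m = 7 * k + 1 := by omega
  have h6 : k ≤ 9 := by omega
  subst h5
  interval_cases k <;> first | (left; rfl) | (right; left; rfl) | (right; right; rfl) | (exfalso; revert h1; norm_num; done)

/-- `Ω₁(Z(P))` -/
def Z1 (P : Subgroup K) : Subgroup K where
  carrier := {z | z ∈ P ∧ z * z = 1 ∧ ∀ p ∈ P, p * z = z * p}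
  one_mem' := ⟨P.one_mem, by simp, by simp⟩
  mul_mem' := by
    rintro a b ⟨ha, ha2, hac⟩ ⟨hb, hb2, hbc⟩
    refine ⟨P.mul_mem ha hb, ?_, fun p hp => ?_⟩
    · calc a * b * (a * b) = a * (b * a) * b := by group
        _ = a * (a * b) * b := by rw [hac b hb]
        _ = (a * a) * (b * b) := by group
        _ = 1 := by rw [ha2, hb2, mul_one]
    · rw [← mul_assoc, hac p hp, mul_assoc, hbc p hp, mul_assoc]
  inv_mem' := by
    rintro a ⟨ha, ha2, hac⟩
    have h1 : a⁻¹ = a := inv_eq_of_mul_eq_one_left ha2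
    show a⁻¹ ∈ P ∧ a⁻¹ * a⁻¹ = 1 ∧ ∀ p ∈ P, p * a⁻¹ = a⁻¹ * p
    rw [h1]
    exact ⟨ha, ha2, hac⟩

theorem Z1_le (P : Subgroup K) : Z1 P ≤ P := fun _ hz => hz.1

theorem Z1_ne_bot (h : Full H P D x₁) : Z1 P ≠ ⊥ := by
  obtain ⟨t, ht, ht2⟩ := h.exists_involution
  have hne : Nontrivial P := by
    refine ⟨⟨⟨t, ht⟩, 1, fun hh => ?_⟩⟩
    have : t = 1 := congrArg Subtype.val hh
    rw [this, orderOf_one] at ht2
    exact absurd ht2 (by norm_num)
  obtain ⟨z, hz2, hzc⟩ := exists_central_involution h.isPGroup hne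
  intro hbot
  have hz : (z : K) ∈ Z1 P := by
    refine ⟨z.2, ?_, fun p hp => congrArg Subtype.val (hzc ⟨p, hp⟩)⟩
    have := mul_self_of_orderOf hz2
    exact congrArg Subtype.val this
  rw [hbot, Subgroup.mem_bot] at hz
  have : z = 1 := Subtype.ext hz
  rw [this, orderOf_one] at hz2
  exact absurd hz2 (by norm_num)

/-- an automorphism leaving `P` invariant leaves `Ω₁(Z(P))` invariant -/
theorem map_Z1 {α : MulAut K} (hα : ∀ p, α p ∈ P ↔ p ∈ P) {z : K} (hz : z ∈ Z1 P) : α z ∈ Z1 P := by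
  refine ⟨(hα z).mpr hz.1, ?_, fun p hp => ?_⟩
  · rw [← map_mul, hz.2.1, map_one]
  · have h1 : α (α.symm p) = p := α.apply_symm_apply p
    have h2 : α.symm p ∈ P := by rw [← hα, h1]; exact hp
    have h3 := hz.2.2 _ h2
    rw [← h1, ← map_mul, h3, map_mul]

theorem conj_iff (h : Full H P D x₁) {g : K} (hg : g ∈ H) (p : K) : MulAut.conj g p ∈ P ↔ p ∈ P := by
  constructor
  · intro hp
    have h1 := h.hPn g⁻¹ (H.inv_mem hg) _ hp
    have h2 : g⁻¹ * (MulAut.conj g p) * g⁻¹⁻¹ = p := by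
      rw [MulAut.conj_apply]; group
    rwa [h2] at h1
  · intro hp; exact h.hPn g hg p hp

theorem card_Z1 [IsSimpleGroup K] (h : Full H P D x₁) : Nat.card (Z1 P) = 8 := by
  rcases h.card_invariant (Z1_le P) (fun d hd c hc => map_Z1 (h.conj_iff (h.le hd)) hc) with h1 | h1 | h1
  · exact absurd (Subgroup.card_eq_one.mp h1) h.Z1_ne_bot
  · exact h1
  · exfalso
    have hZP : Z1 P = P := Subgroup.eq_of_le_of_card_ge (Z1_le P) (by rw [h1, h.hPc])
    obtain ⟨t, ht, ht2⟩ := h.exists_involution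
    letI : MulAction H K := MulAction.compHom K (MulAut.conj.comp H.subtype)
    have hsm : ∀ (g : H) (k : K), g • k = g * k * (g : K)⁻¹ := fun g k => rfl
    have horb : MulAction.orbit H t = (P : Set K) \ {1} := by
      ext s
      simp only [Set.mem_diff, SetLike.mem_coe, Set.mem_singleton_iff]
      constructor
      · rintro ⟨g, rfl⟩
        constructor
        · exact h.hPn g g.2 t ht
        · intro hg
          have hg' : (g : K) * t * (g : K)⁻¹ = 1 := hg
          have h3 : t = 1 := by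
            have := congrArg (fun z => (g : K)⁻¹ * z * g) hg'
            simpa [mul_assoc] using this
          rw [h3, orderOf_one] at ht2
          exact absurd ht2 (by norm_num)
      · rintro ⟨hs, hs1⟩
        have hs2 : orderOf s = 2 := by
          have h3 : s ∈ Z1 P := by rw [hZP]; exact hs
          exact orderOf_eq_two_of_mul_self h3.2.1 hs1
        obtain ⟨g, hg⟩ := isConj_iff.mp (isConj_of_involutions h.hse t s ht2 hs2)
        have hgH : g ∈ H := mem_of_conj_mem h.hse (h.hPH ht) ht2 (by rw [hg]; exact h.hPH hs)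
        exact ⟨⟨g, hgH⟩, hg⟩
    have h2 := MulAction.index_stabilizer H t
    have h3 : ((P : Set K) \ {1}).ncard = 63 := by
      rw [Set.ncard_diff_singleton_of_mem (show (1 : K) ∈ (P : Set K) from P.one_mem)]
      have : (P : Set K).ncard = 64 := h.hPc
      omega
    rw [horb, h3] at h2
    have h4 : (63 : ℕ) ∣ 448 := by
      rw [← h2, ← card_H h.hse h.hcard]
      exact Subgroup.index_dvd_card _
    revert h4
    norm_num

/-- automorphisms leaving `P` invariant leave `H` invariant -/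
theorem map_H (h : Full H P D x₁) {α : MulAut K} (hα : ∀ p, α p ∈ P ↔ p ∈ P) (g : K) :
    α g ∈ H ↔ g ∈ H := by
  constructor
  · intro hg
    refine h.mem_H_of_normalizes fun p hp => ?_
    rw [← hα, map_mul, map_mul, map_inv]
    exact h.hPn _ hg _ ((hα p).mpr hp)
  · intro hg
    refine h.mem_H_of_normalizes fun p hp => ?_
    have h1 : α (α.symm p) = p := α.apply_symm_apply p
    have h2 : α.symm p ∈ P := by rw [← hα, h1]; exact hp
    rw [← h1, ← map_inv, ← map_mul, ← map_mul, hα]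
    exact h.hPn g hg _ h2

/-- main step: a nontrivial automorphism leaving `P` invariant and centralising `D` is fixed point
free on `P` -/
theorem fixed_point_free [IsSimpleGroup K] (h : Full H P D x₁) {α : MulAut K}
    (hα : ∀ p, α p ∈ P ↔ p ∈ P) (hD : ∀ d ∈ D, α d = d) (hα1 : α ≠ 1) : P ⊓ fixG α = ⊥ := by
  classical
  by_contra hne
  have hH := h.map_H hα
  set a : K ⧸ H → K ⧸ H := Quotient.map' (s₁ := QuotientGroup.leftRel H) (s₂ := QuotientGroup.leftRel H) α (by
    intro x y hxy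
    rw [QuotientGroup.leftRel_apply] at hxy ⊢
    rw [← map_inv, ← map_mul, hH]
    exact hxy) with ha_def
  have ha_mk : ∀ g : K, a (g : K ⧸ H) = ((α g : K) : K ⧸ H) := fun g => rfl
  have ha : ∀ (k : K) (x : K ⧸ H), a (k • x) = α k • a x := by
    intro k x
    induction x using QuotientGroup.induction_on with | H g => ?_
    show a ((k * g : K) : K ⧸ H) = α k • a (g : K ⧸ H)
    rw [ha_mk, ha_mk, map_mul]
    rfl
  have h0 : a ((1 : K) : K ⧸ H) = ((1 : K) : K ⧸ H) := by rw [ha_mk, map_one]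
  obtain ⟨g₁, hg₁⟩ : ∃ g : K, x₁ = (g : K ⧸ H) := by
    induction x₁ using QuotientGroup.induction_on with | H g => exact ⟨g, rfl⟩
  have hg1H : g₁ ∉ H := fun hh => h.ne (by rw [hg₁]; exact (coe_eq_one_iff g₁).mpr hh)
  have h1 : a x₁ = x₁ := by
    refine h.toData.fix_eq h.hse h.hcard ?_ ?_
    · rw [hg₁, ha_mk]
      intro hh
      exact hg1H ((hH g₁).mp ((coe_eq_one_iff _).mp hh))
    · intro d hd
      have h2 := ha d x₁
      rw [((h.mem d).mp hd).2, hD d hd] at h2
      exact h2.symm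
  -- the second point
  set P₁ : Subgroup K := P.map (MulAut.conj g₁).toMonoidHom with hP₁
  have hbase : g₁⁻¹ • ((1 : K) : K ⧸ H) ≠ ((1 : K) : K ⧸ H) := by
    intro hh
    have h2 : ((g₁⁻¹ * 1 : K) : K ⧸ H) = ((1 : K) : K ⧸ H) := hh
    rw [mul_one, coe_eq_one_iff] at h2
    exact hg1H (by simpa using H.inv_mem h2)
  have hg1x : g₁⁻¹ • x₁ = ((1 : K) : K ⧸ H) := by
    rw [hg₁]
    show ((g₁⁻¹ * g₁ : K) : K ⧸ H) = _
    rw [inv_mul_cancel]
  have hreg' : ∀ x, x ≠ x₁ → ∃ p ∈ P₁, p • ((1 : K) : K ⧸ H) = x := by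
    intro x hx
    have hx' : g₁⁻¹ • x ≠ ((1 : K) : K ⧸ H) := by
      rw [← hg1x]
      intro hh
      exact hx (smul_left_cancel _ hh)
    obtain ⟨p, hp, hpx⟩ := h.regular hbase hx'
    refine ⟨g₁ * p * g₁⁻¹, ⟨p, hp, rfl⟩, ?_⟩
    rw [mul_smul, mul_smul, hpx, smul_inv_smul]
  have hfree' : ∀ p ∈ P₁, p • ((1 : K) : K ⧸ H) = ((1 : K) : K ⧸ H) → p = 1 := by
    rintro _ ⟨p, hp, rfl⟩ hpx
    have hpx' : (g₁ * p * g₁⁻¹) • ((1 : K) : K ⧸ H) = ((1 : K) : K ⧸ H) := hpx
    have h2 : p • (g₁⁻¹ • ((1 : K) : K ⧸ H)) = g₁⁻¹ • ((1 : K) : K ⧸ H) := by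
      rw [mul_smul, mul_smul] at hpx'
      rw [eq_inv_smul_iff]; exact hpx'
    rw [h.free hbase hp h2]
    exact map_one _
  have hαP' : ∀ p ∈ P₁, α p ∈ P₁ := by
    rintro _ ⟨p, hp, rfl⟩
    have h2 : g₁⁻¹ * α g₁ ∈ H := by
      rw [hg₁, ha_mk] at h1
      exact QuotientGroup.eq.mp h1.symm
    refine ⟨(g₁⁻¹ * α g₁) * α p * (g₁⁻¹ * α g₁)⁻¹, h.hPn _ h2 _ ((hα p).mpr hp), ?_⟩
    show g₁ * ((g₁⁻¹ * α g₁) * α p * (g₁⁻¹ * α g₁)⁻¹) * g₁⁻¹ = α (g₁ * p * g₁⁻¹)
    rw [map_mul, map_mul, map_inv]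
    group
  have hcount := fix_count α a ha h.ne h0 h1 P (fun p hp => smul_one_of_mem (h.hPH hp))
    (fun x hx => h.regular h.ne hx) (fun p hp hpx => h.free h.ne hp hpx) (fun p hp => (hα p).mpr hp)
  have hdvd := AutSz8.fix_dvd α a ha h.ne h0 h1 P P₁ (fun p hp => smul_one_of_mem (h.hPH hp))
    (fun x hx => h.regular h.ne hx) (fun p hp hpx => h.free h.ne hp hpx) (fun p hp => (hα p).mpr hp)
    hreg' hfree' hαP' hne
  rw [hcount, h.hcard] at hdvd
  rcases h.card_invariant (C := P ⊓ fixG α) inf_le_left (by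
    rintro d hd c ⟨hc, hcα⟩
    refine ⟨h.hPn d (h.le hd) c hc, ?_⟩
    show α (d * c * d⁻¹) = d * c * d⁻¹
    rw [map_mul, map_mul, map_inv, hD d hd, show α c = c from hcα]) with h3 | h3 | h3
  · exact hne (Subgroup.card_eq_one.mp h3)
  · rw [h3] at hdvd
    revert hdvd; norm_num
  · have hPle : P ⊓ fixG α = P := Subgroup.eq_of_le_of_card_ge inf_le_left (by rw [h3, h.hPc])
    have hall : ∀ x, a x = x := by
      intro x
      by_cases hx : x = ((1 : K) : K ⧸ H)
      · rw [hx, h0]
      · obtain ⟨p, hp, rfl⟩ := h.regular h.ne hx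
        have : α p = p := by
          have h4 : p ∈ P ⊓ fixG α := by rw [hPle]; exact hp
          exact h4.2
        rw [ha, h1, this]
    apply hα1
    ext k
    have h4 : k⁻¹ * α k = 1 := by
      refine eq_one_of_fix_all h.hse fun x => ?_
      have h5 := ha k x
      rw [hall, hall] at h5
      rw [mul_smul, ← h5, inv_smul_smul]
    exact (inv_mul_eq_one.mp h4).symm

end Full

open scoped Pointwise

theorem mem_smul_iff {G : Type*} [Group G] {α : MulAut G} {P : Subgroup G} (hα : α • P = P) (p : G) :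
    α p ∈ P ↔ p ∈ P := by
  constructor
  · intro hp
    have h1 : α • p ∈ α • P := by rw [hα]; exact hp
    exact Subgroup.smul_mem_pointwise_smul_iff.mp h1
  · intro hp
    have h1 : α • p ∈ α • P := Subgroup.smul_mem_pointwise_smul _ _ _ hp
    rwa [hα] at h1

theorem conj_injective [IsSimpleGroup K] (h2 : Nat.card K = 29120) :
    Function.Injective (MulAut.conj : K →* MulAut K) := by
  have hc : Subgroup.center K = ⊥ := by
    rcases IsSimpleGroup.eq_bot_or_eq_top_of_normal (Subgroup.center K) inferInstance with h | h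
    · exact h
    · exfalso
      letI : CommGroup K := Group.commGroupOfCenterEqTop h
      have h3 := IsSimpleGroup.prime_card (α := K)
      rw [h2] at h3
      revert h3; norm_num
  rw [injective_iff_map_eq_one]
  intro k hk
  have h3 : k ∈ Subgroup.center K := by
    rw [Subgroup.mem_center_iff]
    intro g
    have := DFunLike.congr_fun hk g
    have h4 : k * g * k⁻¹ = g := this
    have h5 : k * g = g * k := by
      have := congrArg (· * k) h4
      simpa using this
    exact h5.symm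
  rw [hc] at h3
  exact h3

/-- an automorphism leaving `P` invariant and centralising `D` is conjugation by an element of `D` -/
theorem Full.mem_range [IsSimpleGroup K] {P D : Subgroup K} {x₁ : K ⧸ H} (h : Full H P D x₁)
    {α : MulAut K} (hα : α • P = P) (hD : ∀ d ∈ D, α d = d) :
    α ∈ (MulAut.conj : K →* MulAut K).range := by
  classical
  set N : Subgroup (MulAut K) := MulAction.stabilizer (MulAut K) P ⊓ fixingSubgroup (MulAut K) (D : Set K)
    with hN
  have hNmem : ∀ β : MulAut K, β ∈ N ↔ β • P = P ∧ ∀ d ∈ D, β d = d := by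
    intro β
    rw [hN, Subgroup.mem_inf, MulAction.mem_stabilizer_iff, mem_fixingSubgroup_iff]
    rfl
  have hdvd : Nat.card N ∣ Nat.card (Full.Z1 P) - 1 := by
    refine card_dvd_sub_one N.subtype (Full.Z1 P) ?_ ?_
    · intro β c hc
      exact Full.map_Z1 (mem_smul_iff ((hNmem β).mp β.2).1) hc
    · intro β c hc hc1 hβc
      by_contra hβ1
      have h2 := h.fixed_point_free (mem_smul_iff ((hNmem β).mp β.2).1) ((hNmem β).mp β.2).2
        (fun hh => hβ1 (Subtype.ext hh))
      have h3 : c ∈ P ⊓ fixG (β : MulAut K) := ⟨Full.Z1_le P hc, hβc⟩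
      rw [h2] at h3
      exact hc1 h3
  rw [h.card_Z1] at hdvd
  have hDle : D.map (MulAut.conj : K →* MulAut K) ≤ N := by
    rintro _ ⟨d, hd, rfl⟩
    rw [hNmem]
    constructor
    · apply Subgroup.eq_of_le_of_card_ge
      · rintro _ ⟨p, hp, rfl⟩
        exact h.hPn d (h.le hd) p hp
      · rw [Nat.card_congr (Subgroup.equivSMul (MulAut.conj d) P).toEquiv]
    · intro e he
      show d * e * d⁻¹ = e
      rw [commute_of_card_seven h.cardD hd he, mul_inv_cancel_right]
  have hcD : Nat.card (D.map (MulAut.conj : K →* MulAut K)) = 7 := by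
    rw [Subgroup.card_map_of_injective (conj_injective h.hcard), h.cardD]
  have hle : Nat.card N ≤ 7 := Nat.le_of_dvd (by norm_num) hdvd
  have heq : D.map (MulAut.conj : K →* MulAut K) = N := Subgroup.eq_of_le_of_card_ge hDle (by omega)
  have hαN : α ∈ N := (hNmem α).mpr ⟨hα, hD⟩
  rw [← heq] at hαN
  obtain ⟨d, -, rfl⟩ := hαN
  exact ⟨d, rfl⟩

/-- modulo inner automorphisms every automorphism stabilises `P` and `D` -/
theorem Full.exists_conj_mul [IsSimpleGroup K] {P D : Subgroup K} {x₁ : K ⧸ H} (h : Full H P D x₁)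
    (α : MulAut K) : ∃ (k : K) (β : MulAut K), α = MulAut.conj k * β ∧ β • P = P ∧ β • D = D := by
  classical
  haveI : Fact (Nat.Prime 2) := ⟨Nat.prime_two⟩
  have h2 : (Nat.card K).factorization 2 = 6 := by
    have h3 : (29120 : ℕ) = 2 ^ 6 * 455 := by norm_num
    rw [h.hcard, h3, Nat.factorization_mul (by norm_num) (by norm_num), Nat.Prime.factorization_pow Nat.prime_two,
      Finsupp.add_apply, Finsupp.single_apply, if_pos rfl,
      Nat.factorization_eq_zero_of_not_dvd (by norm_num)]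
  have hc1 : Nat.card P = 2 ^ (Nat.card K).factorization 2 := by rw [h2, h.hPc]; norm_num
  have hc2 : Nat.card (α • P : Subgroup K) = 2 ^ (Nat.card K).factorization 2 := by
    rw [← hc1]; exact (Nat.card_congr (Subgroup.equivSMul α P).toEquiv).symm
  obtain ⟨k, hk⟩ := MulAction.exists_smul_eq K (Sylow.ofCard P hc1) (Sylow.ofCard (α • P) hc2)
  have hk' : MulAut.conj k • P = α • P := congrArg (fun S : Sylow 2 K => (S : Subgroup K)) hk
  set β : MulAut K := (MulAut.conj k)⁻¹ * α with hβ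
  have hβP : β • P = P := by rw [hβ, mul_smul, ← hk', inv_smul_smul]
  have hβH := h.map_H (mem_smul_iff hβP)
  -- move `D`
  have hle : (β • D : Subgroup K) ≤ H := by
    rintro _ ⟨d, hd, rfl⟩
    exact (hβH d).mpr (h.le hd)
  have hDc : Nat.card (D.subgroupOf H) = 7 := by
    rw [Nat.card_congr (Subgroup.subgroupOfEquivOfLe h.le).toEquiv, h.cardD]
  have hEc : Nat.card ((β • D : Subgroup K).subgroupOf H) = 7 := by
    rw [Nat.card_congr (Subgroup.subgroupOfEquivOfLe hle).toEquiv,
      ← Nat.card_congr (Subgroup.equivSMul β D).toEquiv, h.cardD]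
  obtain ⟨g, hg⟩ := exists_conj_seven _ _ hDc hEc (card_H h.hse h.hcard)
  have hgD : MulAut.conj (g : K) • D = β • D := by
    apply Subgroup.eq_of_le_of_card_ge
    · rintro _ ⟨d, hd, rfl⟩
      exact (hg ⟨d, h.le hd⟩).mp hd
    · rw [← Nat.card_congr (Subgroup.equivSMul β D).toEquiv,
        ← Nat.card_congr (Subgroup.equivSMul (MulAut.conj (g : K)) D).toEquiv]
  have hgP : MulAut.conj (g : K) • P = P := by
    apply Subgroup.eq_of_le_of_card_ge
    · rintro _ ⟨p, hp, rfl⟩
      exact h.hPn g g.2 p hp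
    · rw [Nat.card_congr (Subgroup.equivSMul (MulAut.conj (g : K)) P).toEquiv]
  refine ⟨k * g, (MulAut.conj (g : K))⁻¹ * β, ?_, ?_, ?_⟩
  · rw [map_mul, hβ]; group
  · rw [mul_smul, hβP]
    exact inv_smul_eq_iff.mpr hgP.symm
  · rw [mul_smul]
    exact inv_smul_eq_iff.mpr hgD.symm

theorem Full.commutator_mem [IsSimpleGroup K] {P D : Subgroup K} {x₁ : K ⧸ H} (h : Full H P D x₁)
    {a b : MulAut K} (ha : a • P = P) (ha' : a • D = D) (hb : b • P = P) (hb' : b • D = D) :
    ⁅a, b⁆ ∈ (MulAut.conj : K →* MulAut K).range := by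
  have hai : a⁻¹ • P = P := inv_smul_eq_iff.mpr ha.symm
  have hbi : b⁻¹ • P = P := inv_smul_eq_iff.mpr hb.symm
  have hai' : a⁻¹ • D = D := inv_smul_eq_iff.mpr ha'.symm
  have hbi' : b⁻¹ • D = D := inv_smul_eq_iff.mpr hb'.symm
  refine h.mem_range ?_ ?_
  · rw [commutatorElement_def, mul_smul, mul_smul, mul_smul, hbi, hai, hb, ha]
  · intro d hd
    -- `D` is cyclic, so `a` and `b` commute on `D`
    haveI : Fact (Nat.Prime 7) := ⟨by norm_num⟩
    haveI : IsCyclic D := isCyclic_of_prime_card h.cardD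
    obtain ⟨d₀, hd₀⟩ := IsCyclic.exists_generator (α := D)
    have hgen : ∀ y ∈ D, ∃ n : ℤ, (d₀ : K) ^ n = y := by
      intro y hy
      obtain ⟨n, hn⟩ := Subgroup.mem_zpowers_iff.mp (hd₀ ⟨y, hy⟩)
      exact ⟨n, by have := congrArg Subtype.val hn; simpa using this⟩
    have hmem : ∀ (c : MulAut K), c • D = D → ∀ y ∈ D, c y ∈ D := fun c hc y hy => (mem_smul_iff hc y).mpr hy
    have hcomm : ∀ y ∈ D, a (b y) = b (a y) := by
      obtain ⟨m, hm⟩ := hgen _ (hmem a ha' _ d₀.2)
      obtain ⟨n, hn⟩ := hgen _ (hmem b hb' _ d₀.2)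
      intro y hy
      obtain ⟨l, rfl⟩ := hgen y hy
      rw [map_zpow, map_zpow, map_zpow, map_zpow, ← hm, ← hn, map_zpow, map_zpow, ← hm, ← hn,
        ← zpow_mul, ← zpow_mul, ← zpow_mul, ← zpow_mul]
      congr 1
      ring
    have h1 : b⁻¹ d ∈ D := hmem _ hbi' _ hd
    have h2 : a⁻¹ (b⁻¹ d) ∈ D := hmem _ hai' _ h1
    show a (b (a⁻¹ (b⁻¹ d))) = d
    rw [hcomm _ h2]
    have h3 : a (a⁻¹ (b⁻¹ d)) = b⁻¹ d := MulAut.apply_inv_self _ _ _
    have h4 : b (b⁻¹ d) = d := MulAut.apply_inv_self _ _ _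
    rw [h3, h4]

end Local

/-- `K` simple of order `29120` with a strongly embedded subgroup: commutators of automorphisms are inner. -/
theorem main {K : Type*} [Group K] [Finite K] [IsSimpleGroup K] (hcard : Nat.card K = 29120)
    (H : Subgroup K) (hH : IsStronglyEmbedded H) :
    commutator (MulAut K) ≤ (MulAut.conj : K →* MulAut K).range := by
  obtain ⟨P, D, x₁, h⟩ := exists_full hH hcard
  rw [commutator_def, Subgroup.commutator_le]
  intro α _ β _
  haveI hn : ((MulAut.conj : K →* MulAut K).range).Normal := by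
    constructor
    rintro _ ⟨k, rfl⟩ g
    refine ⟨g k, ?_⟩
    ext x
    show g k * x * (g k)⁻¹ = g (k * g⁻¹ x * k⁻¹)
    rw [map_mul, map_mul, map_inv]
    have : g (g⁻¹ x) = x := MulAut.apply_inv_self _ _ _
    rw [this]
  obtain ⟨k, a, rfl, haP, haD⟩ := h.exists_conj_mul α
  obtain ⟨l, b, rfl, hbP, hbD⟩ := h.exists_conj_mul β
  have h1 := h.commutator_mem haP haD hbP hbD
  rw [← QuotientGroup.eq_one_iff] at h1 ⊢
  have hk : ((MulAut.conj k : MulAut K) : MulAut K ⧸ (MulAut.conj : K →* MulAut K).range) = 1 :=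
    (QuotientGroup.eq_one_iff _).mpr ⟨k, rfl⟩
  have hl : ((MulAut.conj l : MulAut K) : MulAut K ⧸ (MulAut.conj : K →* MulAut K).range) = 1 :=
    (QuotientGroup.eq_one_iff _).mpr ⟨l, rfl⟩
  rw [commutatorElement_def] at h1 ⊢
  simp only [QuotientGroup.mk_mul, QuotientGroup.mk_inv, hk, hl, one_mul] at h1 ⊢
  exact h1

end Cfsg.Agent.SectRankFour.AutSz8
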